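import Cfsg.Agent.Lib.Spor.J4Class.ElevenCent
import Cfsg.Agent.Lib.Spor.J4Local.ElevenMain
import Cfsg.Agent.Lib.Spor.J4Local.ElevenJ4
import Cfsg.Agent.Lib.Coprime.SchurZassenhaus

/-!
The classes of a group of Janko-four type with order divisible by 11: seven from an element with
centraliser `11^{1+2} : SL₂(3)` and two from an element with centraliser of order 242.
-/

set_option autoImplicit false
set_option maxRecDepth 100000
set_option linter.unusedSectionVars false
set_option linter.style.haveILetI false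

namespace CfsgLib.Spor.J4Class

open Subgroup CfsgLib.Spor.J4Local
open scoped Pointwise

section Part

variable {G : Type*} [Group G] [Finite G]

/-- elements whose part at `p` is conjugate to `x` -/
def partSet (p : ℕ) (x : G) (T : ℕ → Prop) : Set G :=
  {g : G | ∃ v, Commute x v ∧ ¬ p ∣ orderOf v ∧ T (orderOf v) ∧ IsConj g (x * v)}

theorem nCl_partSet {p : ℕ} (hp : p.Prime) {x : G} (hx : orderOf x = p) (T : ℕ → Prop) :
    nCl (partSet p x T) =
      nCl {h : ↥(centralizer ({x} : Set G)) | ¬ p ∣ orderOf h ∧ T (orderOf h)} := by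
  obtain ⟨r, hr1, hr2, hr3⟩ :=
    exists_reps {h : ↥(centralizer ({x} : Set G)) | ¬ p ∣ orderOf h ∧ T (orderOf h)}
  have hcm : ∀ j, Commute x (r j : G) := fun j => (mem_centralizer_singleton_iff.1 (r j).2).symm
  have hnd : ∀ j, ¬ p ∣ orderOf (r j : G) := fun j => by
    rw [Subgroup.orderOf_coe]; exact (hr1 j).1
  rw [show nCl {h : ↥(centralizer ({x} : Set G)) | ¬ p ∣ orderOf h ∧ T (orderOf h)} =
    Fintype.card (Fin (nCl {h : ↥(centralizer ({x} : Set G)) | ¬ p ∣ orderOf h ∧ T (orderOf h)}))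
    from (Fintype.card_fin _).symm]
  refine nCl_eq_of_reps (fun j => x * (r j : G)) (fun j => ⟨r j, hcm j, hnd j, ?_, IsConj.refl _⟩)
    ?_ ?_
  · rw [Subgroup.orderOf_coe]; exact (hr1 j).2
  · intro i j h
    obtain ⟨d, hd⟩ := isConj_iff.1 h
    obtain ⟨e1, e2⟩ := part_unique hp hx hx (hcm i) (hcm j) (hnd i) (hnd j) hd
    exact hr2 i j (isConj_iff.2
      ⟨⟨d, mem_centralizer_singleton_iff.2 (mul_inv_eq_iff_eq_mul.1 e1)⟩, Subtype.ext e2⟩)
  · rintro g ⟨v, hv, hvd, hvT, hg⟩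
    obtain ⟨j, hj⟩ := hr3 ⟨v, mem_centralizer_singleton_iff.2 hv.eq.symm⟩
      ⟨by rwa [Subgroup.orderOf_mk], by rwa [Subgroup.orderOf_mk]⟩
    obtain ⟨e, he⟩ := isConj_iff.1 hj
    have he' : (e : G) * v * (e : G)⁻¹ = (r j : G) := congrArg Subtype.val he
    have hex : (e : G) * x * (e : G)⁻¹ = x :=
      mul_inv_eq_iff_eq_mul.2 (mem_centralizer_singleton_iff.1 e.2)
    refine ⟨j, hg.trans (isConj_iff.2 ⟨(e : G), ?_⟩)⟩
    show (e : G) * (x * v) * (e : G)⁻¹ = x * (r j : G)
    calc (e : G) * (x * v) * (e : G)⁻¹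
        = (e : G) * x * (e : G)⁻¹ * ((e : G) * v * (e : G)⁻¹) := by group
      _ = x * (r j : G) := by rw [hex, he']

end Part

namespace ElevenCl

/-- `SL₂(3)` -/
abbrev SL23 := Matrix.SpecialLinearGroup (Fin 2) (ZMod 3)

/-- representatives of the classes of `SL₂(3)` -/
def repSL : Fin 7 → SL23 :=
  ![1, ⟨!![2, 0; 0, 2], by decide⟩, ⟨!![1, 1; 0, 1], by decide⟩, ⟨!![1, 2; 0, 1], by decide⟩,
    ⟨!![2, 2; 0, 2], by decide⟩, ⟨!![2, 1; 0, 2], by decide⟩, ⟨!![0, 2; 1, 0], by decide⟩]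

theorem card_SL : Fintype.card SL23 = 24 := by decide +kernel

theorem repSL_dist : ∀ i j : Fin 7, (∃ c, c * repSL i = repSL j * c) → i = j := by decide +kernel

theorem repSL_cover : ∀ a : SL23, ∃ i : Fin 7, ∃ c, c * a = repSL i * c := by decide +kernel

theorem repSL_invol : ∀ i : Fin 7, repSL i * repSL i = 1 → repSL i ≠ 1 → i = 1 := by decide +kernel

theorem repSL_one_ord : repSL 1 * repSL 1 = 1 ∧ repSL 1 ≠ 1 ∧
    ∀ a : SL23, a * repSL 1 = repSL 1 * a := by decide +kernel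

theorem squares_gen : ∀ s : SL23, ∃ a b : SL23, s = a * a * (b * b) := by decide +kernel

theorem avoid_of_dvd {n : ℕ} (h : n ∣ 24) : ¬ 11 ∣ n ∧ Avoid [23, 29, 31, 37, 43] n := by
  refine ⟨fun h' => absurd (h'.trans h) (by norm_num), fun q hq hd => ?_⟩
  have h24 := hd.trans h
  simp only [List.mem_cons, List.not_mem_nil, or_false] at hq
  rcases hq with rfl | rfl | rfl | rfl | rfl <;> norm_num at h24

variable {G : Type*} [Group G]

theorem isConj_of_mul_eq {a b c : G} (h : c * a = b * c) : IsConj a b :=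
  isConj_iff.2 ⟨c, mul_inv_eq_iff_eq_mul.2 h⟩

variable [Finite G]

/-- the copy of `SL₂(3)` in the centraliser of the central element -/
theorem exists_sl (D : ElevenDatum G) :
    ∃ ι : SL23 →* G, Function.Injective ι ∧ (∀ s, ι s * D.c = D.c * ι s) ∧
      ∀ s, ι s ∈ normalizer (D.sub : Set G) := by
  obtain ⟨K, hK, ⟨e⟩⟩ := D.gl23
  let ι : SL23 →* G :=
    K.subtype.comp (e.symm.toMonoidHom.comp Matrix.SpecialLinearGroup.toGL)
  have hinj : Function.Injective ι := K.subtype_injective.comp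
    (e.symm.injective.comp Matrix.SpecialLinearGroup.toGL_injective)
  have hN : ∀ s, ι s ∈ normalizer (D.sub : Set G) := fun s =>
    hK (SetLike.coe_mem (e.symm (Matrix.SpecialLinearGroup.toGL s)))
  have hc : ∀ g ∈ normalizer (D.sub : Set G), g * D.c * g⁻¹ ∈ zpowers D.c := by
    intro g hg
    have hsub : D.sub ≤ centralizer ({D.c} : Set G) := by
      rw [ElevenDatum.sub, closure_le]
      rintro y (rfl | rfl) <;> apply mem_centralizer_singleton_iff.2
      exacts [D.comm_ac, D.comm_bc]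
    have hcomm : ∀ y ∈ D.sub, y * (g * D.c * g⁻¹) = g * D.c * g⁻¹ * y := fun y hy => by
      have h1 := mem_centralizer_singleton_iff.1 (hsub ((mem_normalizer_iff''.1 hg y).1 hy))
      calc y * (g * D.c * g⁻¹) = g * (g⁻¹ * y * g * D.c) * g⁻¹ := by group
        _ = g * D.c * g⁻¹ * y := by rw [h1]; group
    exact D.mem_centre ((mem_normalizer_iff.1 hg _).1 D.c_mem) (hcomm _ D.a_mem) (hcomm _ D.b_mem)
  have hNZ : ∀ s, ι s ∈ normalizer (zpowers D.c : Set G) := fun s => by
    refine mem_normalizer_fintype fun y hy => ?_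
    obtain ⟨n, rfl⟩ := mem_zpowers_iff.1 hy
    exact SetLike.mem_coe.2 (conj_zpow (a := ι s) (b := D.c) (i := n) ▸ zpow_mem (hc _ (hN s)) n)
  let χ : SL23 →* MulAut ↥(zpowers D.c) :=
    (zpowers D.c).normalizerMonoidHom.comp (ι.codRestrict _ hNZ)
  have hsq : ∀ a : SL23, χ a * χ a = 1 := by
    intro a
    haveI : IsCyclic ↥(zpowers D.c) := inferInstance
    have hAut : Nat.card (MulAut ↥(zpowers D.c)) = 10 := by
      rw [IsCyclic.card_mulAut, Nat.card_zpowers, D.c_order,
        Nat.totient_prime (by norm_num : Nat.Prime 11)]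
    have h1 : orderOf (χ a) ∣ 24 := (orderOf_map_dvd χ a).trans (by
      rw [← card_SL]; exact orderOf_dvd_card)
    have h2 : orderOf (χ a) ∣ 10 := hAut ▸ orderOf_dvd_natCard _
    rw [← pow_two]
    exact orderOf_dvd_iff_pow_eq_one.1 (Nat.dvd_gcd h1 h2)
  refine ⟨ι, hinj, fun s => ?_, hN⟩
  have hker : χ s = 1 := by
    obtain ⟨a, b, rfl⟩ := squares_gen s
    rw [map_mul, map_mul, map_mul, hsq, hsq, mul_one]
  have h := congrArg (fun ψ : MulAut ↥(zpowers D.c) => ((ψ ⟨D.c, mem_zpowers _⟩ : ↥(zpowers D.c)) : G)) hker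
  exact mul_inv_eq_iff_eq_mul.1 (h : ι s * D.c * (ι s)⁻¹ = D.c)

theorem orderOf_ι {ι : SL23 →* G} (hι : Function.Injective ι) (s : SL23) : orderOf (ι s) ∣ 24 := by
  rw [orderOf_injective ι hι, ← card_SL]
  exact orderOf_dvd_card

section Local

variable (D : ElevenDatum G) {ι : SL23 →* G} (hι : Function.Injective ι)
  (hιc : ∀ s, ι s * D.c = D.c * ι s) (hιN : ∀ s, ι s ∈ normalizer (D.sub : Set G))
  (hdvd : ∀ x : G, orderOf x = 11 → Nat.card ↥(centralizer ({x} : Set G)) ∣ 31944)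
include hι hιc hιN hdvd

theorem coprime_sub : (Nat.card ↥D.sub).Coprime (Nat.card ↥ι.range) := by
  rw [D.card_sub, ← Nat.card_congr (MonoidHom.ofInjective hι).toEquiv, Nat.card_eq_fintype_card,
    card_SL]
  norm_num

theorem cent_c : centralizer ({D.c} : Set G) = D.sub ⊔ ι.range := by
  have hle : D.sub ⊔ ι.range ≤ centralizer ({D.c} : Set G) := by
    refine sup_le ?_ ?_
    · rw [ElevenDatum.sub, closure_le]
      rintro y (rfl | rfl) <;> apply mem_centralizer_singleton_iff.2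
      exacts [D.comm_ac, D.comm_bc]
    · rintro _ ⟨s, rfl⟩
      exact mem_centralizer_singleton_iff.2 (hιc s)
  refine (eq_of_le_of_card_ge hle ?_).symm
  refine (Nat.le_of_dvd (by norm_num) (hdvd _ D.c_order)).trans (Nat.le_of_dvd Nat.card_pos ?_)
  refine (dvd_of_eq ?_).trans ((coprime_sub D hι hιc hιN hdvd).mul_dvd_of_dvd_of_dvd
    (card_dvd_of_le le_sup_left) (card_dvd_of_le le_sup_right))
  rw [D.card_sub, ← Nat.card_congr (MonoidHom.ofInjective hι).toEquiv, Nat.card_eq_fintype_card,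
    card_SL]
  norm_num

/-- an element of order prime to 11 of the centraliser is conjugate there into the complement -/
theorem conj_into {h : G} (hh : h ∈ centralizer ({D.c} : Set G)) (h11 : ¬ 11 ∣ orderOf h) :
    ∃ i : Fin 7, ∃ g ∈ centralizer ({D.c} : Set G), g * h * g⁻¹ = ι (repSL i) := by
  have hC := cent_c D hι hιc hιN hdvd
  have hN : ι.range ≤ normalizer (D.sub : Set G) := by
    rintro _ ⟨s, rfl⟩; exact hιN s
  have hp : IsPGroup 11 ↥D.sub := IsPGroup.of_card D.card_sub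
  haveI : Fact (Nat.Prime 11) := ⟨by norm_num⟩
  haveI := hp.isNilpotent
  obtain ⟨a, ha, hle⟩ := CfsgLib.Coprime.sz_conj_le (U := zpowers h) hN
    (zpowers_le.2 (hC ▸ hh)) (coprime_sub D hι hιc hιN hdvd) (by
      rw [D.card_sub, Nat.card_zpowers]
      exact Nat.Coprime.pow_left 3 (((by norm_num : Nat.Prime 11).coprime_iff_not_dvd).2 h11))
    (Or.inl inferInstance)
  obtain ⟨s, hs⟩ := hle (smul_mem_pointwise_smul h (MulAut.conj a) _ (mem_zpowers h))
  obtain ⟨i, d, hd⟩ := repSL_cover s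
  refine ⟨i, ι d * a, mul_mem (hC.symm ▸ le_sup_right (a := D.sub) (MonoidHom.mem_range.2 ⟨d, rfl⟩))
    (hC.symm ▸ le_sup_left (b := ι.range) ha), ?_⟩
  have hs' : ι s = a * h * a⁻¹ := by rw [hs, MulAut.smul_def, MulAut.conj_apply]
  calc ι d * a * h * (ι d * a)⁻¹ = ι d * (a * h * a⁻¹) * (ι d)⁻¹ := by group
    _ = ι (d * s) * (ι d)⁻¹ := by rw [← hs', map_mul]
    _ = ι (repSL i) := by rw [hd, map_mul, mul_inv_cancel_right]

theorem nCl_c : nCl {h : ↥(centralizer ({D.c} : Set G)) |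
    ¬ 11 ∣ orderOf h ∧ Avoid [23, 29, 31, 37, 43] (orderOf h)} = 7 := by
  have hC := cent_c D hι hιc hιN hdvd
  rw [show (7 : ℕ) = Fintype.card (Fin 7) from rfl]
  refine nCl_eq_of_reps (fun i => ⟨ι (repSL i), mem_centralizer_singleton_iff.2 (hιc _)⟩)
    (fun i => ?_) ?_ ?_
  · show ¬ 11 ∣ orderOf _ ∧ Avoid _ (orderOf _)
    rw [Subgroup.orderOf_mk]
    exact avoid_of_dvd (orderOf_ι hι _)
  · intro i j hij
    obtain ⟨⟨g, hg⟩, he⟩ := isConj_iff.1 hij
    have he' : g * ι (repSL i) * g⁻¹ = ι (repSL j) := congrArg Subtype.val he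
    have hN : ι.range ≤ normalizer (D.sub : Set G) := by
      rintro _ ⟨s, rfl⟩; exact hιN s
    rw [hC, sup_comm, ← SetLike.mem_coe, coe_mul_of_left_le_normalizer_right ι.range D.sub hN] at hg
    obtain ⟨_, ⟨k, rfl⟩, s, hs, rfl⟩ := hg
    have h1 : s * ι (repSL i) * s⁻¹ = ι (k⁻¹ * repSL j * k) := by
      rw [map_mul, map_mul, map_inv, ← he']; group
    have h2 : s * ι (repSL i) * s⁻¹ * (ι (repSL i))⁻¹ ∈ D.sub := by
      rw [show s * ι (repSL i) * s⁻¹ * (ι (repSL i))⁻¹ =
        s * (ι (repSL i) * s⁻¹ * (ι (repSL i))⁻¹) by group]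
      exact mul_mem hs ((mem_normalizer_iff.1 (hιN _) _).1 (inv_mem hs))
    rw [h1, ← map_inv, ← map_mul] at h2
    have h3 : ι (k⁻¹ * repSL j * k * (repSL i)⁻¹) = 1 :=
      orderOf_eq_one_iff.1 (Nat.eq_one_of_dvd_coprimes (coprime_sub D hι hιc hιN hdvd)
        (Subgroup.orderOf_dvd_natCard _ h2)
        (Subgroup.orderOf_dvd_natCard _ (MonoidHom.mem_range.2 ⟨_, rfl⟩)))
    rw [← map_one ι] at h3
    have h4 := mul_inv_eq_one.1 (hι h3)
    refine repSL_dist i j ⟨k, ?_⟩
    rw [← h4]; group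
  · rintro ⟨h, hh⟩ ⟨h11, -⟩
    rw [Subgroup.orderOf_mk] at h11
    obtain ⟨i, g, hg, he⟩ := conj_into D hι hιc hιN hdvd hh h11
    exact ⟨i, isConj_iff.2 ⟨⟨g, hg⟩, Subtype.ext he⟩⟩

theorem invol_c {h : G} (hh : h ∈ centralizer ({D.c} : Set G)) (h2 : orderOf h = 2) :
    IsConj h (ι (repSL 1)) := by
  obtain ⟨i, g, hg, he⟩ := conj_into D hι hιc hιN hdvd hh (by rw [h2]; norm_num)
  have ho : orderOf (repSL i) = 2 := by
    rw [← orderOf_injective ι hι, ← he, ← MulAut.conj_apply, MulEquiv.orderOf_eq, h2]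
  have hi : i = 1 := repSL_invol i (by
    have := pow_orderOf_eq_one (repSL i)
    rwa [ho, pow_two] at this) (fun e => by
    rw [e, orderOf_one] at ho
    exact absurd ho (by norm_num))
  rw [hi] at he
  exact isConj_iff.2 ⟨g, he⟩

end Local

end ElevenCl

open ElevenCl in
/-- the classes of order divisible by 11 -/
theorem eleven_stage {G : Type*} [Group G] [Finite G] [IsSimpleGroup G]
    (hG : ¬ IsMulCommutative G) {z : G} {P : Subgroup G} (hJ : Cfsg.IsOfJankoFourTypeWith z P)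
    (φ : G ≃* Cfsg.Spor.J4) : stage G 11 [23, 29, 31, 37, 43] = 9 := by
  haveI : Fact (Nat.Prime 11) := ⟨by norm_num⟩
  haveI : Fact (Nat.Prime 2) := ⟨Nat.prime_two⟩
  have hcard := natCard_iso φ
  have hdvd := fun x hx => card_cent_dvd hG hJ φ (x := x) hx
  obtain ⟨D⟩ : Nonempty (ElevenDatum G) := ⟨elevenJ4.map φ.symm⟩
  obtain ⟨ι, hι, hιc, hιN⟩ := exists_sl D
  have hord : ∀ g x : G, orderOf (g * x * g⁻¹) = orderOf x := fun g x => by
    rw [← MulAut.conj_apply, MulEquiv.orderOf_eq]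
  -- the involution of the complement is central
  have hu2 : orderOf (ι (repSL 1)) = 2 :=
    orderOf_eq_prime (by rw [pow_two, ← map_mul, repSL_one_ord.1, map_one])
      fun e => repSL_one_ord.2.1 (hι (e.trans (map_one ι).symm))
  have hcu : D.c ∈ centralizer ({ι (repSL 1)} : Set G) :=
    mem_centralizer_singleton_iff.2 (hιc _).symm
  have huz : IsConj z (ι (repSL 1)) := by
    by_contra hn
    have h := card_other_inf hG hJ D.c_order hu2 hn hcu
    have h24 : 24 ∣ Nat.card ↥(centralizer ({ι (repSL 1)} : Set G) ⊓ centralizer ({D.c} : Set G)) := by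
      refine (dvd_of_eq ?_).trans (card_dvd_of_le (show ι.range ≤ _ by
        rintro _ ⟨s, rfl⟩
        exact ⟨mem_centralizer_singleton_iff.2 (by rw [← map_mul, repSL_one_ord.2.2, map_mul]),
          mem_centralizer_singleton_iff.2 (hιc s)⟩))
      rw [← Nat.card_congr (MonoidHom.ofInjective hι).toEquiv, Nat.card_eq_fintype_card, card_SL]
    exact absurd (h24.trans h) (by norm_num)
  -- an element centralising a conjugate of `z` is conjugate to `c`
  have hnoz : ∀ t : G, IsConj z t → D.a ∉ centralizer ({t} : Set G) := by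
    intro t ht hat
    have key : ∀ (x t : G), IsConj z t → x ∈ centralizer ({t} : Set G) →
        ∃ g : G, g * x * g⁻¹ ∈ centralizer ({z} : Set G) := by
      intro x t ht hx
      obtain ⟨g, rfl⟩ := isConj_iff.1 ht
      refine ⟨g⁻¹, ?_⟩
      rw [mem_centralizer_singleton_iff] at hx ⊢
      calc g⁻¹ * x * g⁻¹⁻¹ * z = g⁻¹ * (x * (g * z * g⁻¹)) * g := by group
        _ = z * (g⁻¹ * x * g⁻¹⁻¹) := by rw [hx]; group
    obtain ⟨g, hg⟩ := key _ _ ht hat
    obtain ⟨k, hk⟩ := key _ _ huz hcu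
    have hH := card_centralizer_z (G := G) ⟨P, hJ⟩
    obtain ⟨d, -, q, hq, hq1, hd⟩ := JankoFourFive.exists_conj_of_card_prime (p := 11)
      (H := centralizer ({z} : Set G)) (by rw [hH]; norm_num) hg hk (by rw [hord, D.a_order])
      (by rw [hord, D.c_order])
    obtain ⟨n, hn⟩ := (mem_powers_iff_mem_zpowers.2 hq :
      q ∈ Submonoid.powers (k * D.c * k⁻¹))
    simp only [conj_pow] at hn
    have h1 : IsConj D.a (D.c ^ n) := by
      refine (isConj_iff.2 ⟨g, rfl⟩).trans ((isConj_iff.2 ⟨d, hd⟩).trans ?_)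
      rw [← hn]
      exact (isConj_iff.2 ⟨k, rfl⟩).symm
    have hn0 : n % 11 ≠ 0 := fun h0 => hq1 (by
      rw [← hn, D.c_pow_eq_one.2 h0, mul_one, mul_inv_cancel])
    rw [ElevenDatum.pow_eleven D.c_order n] at h1
    exact D.not_conj (h1.trans (D.c_pow _ (Nat.mod_lt _ (by norm_num)) hn0).symm).symm
  -- the non-central element commutes with an involution of the second kind
  have hai : ∃ t : G, orderOf t = 2 ∧ t ∈ centralizer ({D.a} : Set G) := by
    obtain ⟨t, ht, hnc⟩ := exists_other hG hJ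
    obtain ⟨⟨x, hxt⟩, hx⟩ := exists_prime_orderOf_dvd_card'
      (G := ↥(centralizer ({t} : Set G))) 11 (eleven_dvd_other hG hJ ht hnc)
    rw [Subgroup.orderOf_mk] at hx
    have hconj : ∀ g : G, g * t * g⁻¹ ∈ centralizer ({g * x * g⁻¹} : Set G) := fun g => by
      refine mem_centralizer_singleton_iff.2 ?_
      calc g * t * g⁻¹ * (g * x * g⁻¹) = g * (t * x) * g⁻¹ := by group
        _ = g * x * g⁻¹ * (g * t * g⁻¹) := by
          rw [← mem_centralizer_singleton_iff.1 hxt]; group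
    rcases D.classes hcard hx with h | h
    · exfalso
      obtain ⟨g, hg⟩ := isConj_iff.1 h
      have h1 := hconj g
      rw [hg] at h1
      exact hnc ((huz.trans (invol_c D hι hιc hιN hdvd h1 (by rw [hord, ht])).symm).trans
        (isConj_iff.2 ⟨g, rfl⟩).symm)
    · obtain ⟨g, hg⟩ := isConj_iff.1 h
      have h1 := hconj g
      rw [hg] at h1
      exact ⟨_, by rw [hord, ht], h1⟩
  have hac : ∀ y : G, y ∈ centralizer ({D.a} : Set G) → D.a ∈ centralizer ({y} : Set G) :=
    fun y hy => mem_centralizer_singleton_iff.2 (mem_centralizer_singleton_iff.1 hy).symm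
  have hno3 : ¬ 3 ∣ Nat.card ↥(centralizer ({D.a} : Set G)) := by
    intro h
    haveI : Fact (Nat.Prime 3) := ⟨Nat.prime_three⟩
    obtain ⟨⟨p, hpa⟩, hp⟩ := exists_prime_orderOf_dvd_card' (G := ↥(centralizer ({D.a} : Set G))) 3 h
    rw [Subgroup.orderOf_mk] at hp
    obtain ⟨t, ht, hle⟩ := exists_three hG hJ hp
    exact hnoz t ht (hle (hac p hpa))
  have hno4 : ¬ 2 ^ 2 ∣ Nat.card ↥(centralizer ({D.a} : Set G)) := by
    intro h
    obtain ⟨t, ht, hta, htd⟩ := exists_central_elem (by norm_num) h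
    have hnc : ¬ IsConj z t := fun hc => hnoz t hc (hac t hta)
    exact absurd (htd.trans (card_other_inf hG hJ D.a_order ht hnc (hac t hta))) (by norm_num)
  obtain ⟨t, ht, hta⟩ := hai
  have hA : nCl {h : ↥(centralizer ({D.a} : Set G)) |
      ¬ 11 ∣ orderOf h ∧ Avoid [23, 29, 31, 37, 43] (orderOf h)} = 2 := by
    rw [show (2 : ℕ) = Fintype.card (Fin 2) from rfl]
    have hto : orderOf (⟨t, hta⟩ : ↥(centralizer ({D.a} : Set G))) = 2 := by
      rw [Subgroup.orderOf_mk, ht]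
    refine nCl_eq_of_reps ![1, ⟨t, hta⟩] (fun i => ?_) ?_ ?_
    · fin_cases i
      · show ¬ 11 ∣ orderOf (1 : ↥(centralizer ({D.a} : Set G))) ∧ Avoid _ (orderOf 1)
        rw [orderOf_one]; exact avoid_of_dvd (one_dvd _)
      · show ¬ 11 ∣ orderOf (⟨t, hta⟩ : ↥(centralizer ({D.a} : Set G))) ∧
          Avoid _ (orderOf (⟨t, hta⟩ : ↥(centralizer ({D.a} : Set G))))
        rw [hto]; exact avoid_of_dvd (n := 2) (by norm_num)
    · intro i j hij
      have h := orderOf_isConj hij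
      fin_cases i <;> fin_cases j <;> first | rfl | (simp [hto] at h)
    · intro h hh
      have hdh : orderOf h ∣ 2 := by
        have h1 : orderOf h ∣ 11 ^ 3 * 24 :=
          (orderOf_dvd_natCard h).trans ((hdvd _ D.a_order).trans (by norm_num))
        have h2 : orderOf h ∣ 2 ^ 3 * 3 := Nat.Coprime.dvd_of_dvd_mul_left
          ((((by norm_num : Nat.Prime 11).coprime_iff_not_dvd).2 hh.1).symm.pow_right 3) h1
        have h3 : orderOf h ∣ 2 ^ 3 := Nat.Coprime.dvd_of_dvd_mul_right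
          ((Nat.prime_three.coprime_iff_not_dvd).2
            fun h3 => hno3 (h3.trans (orderOf_dvd_natCard h))).symm h2
        obtain ⟨i, hi, he⟩ := (Nat.dvd_prime_pow Nat.prime_two).1 h3
        rw [he]
        refine (pow_dvd_pow 2 (show i ≤ 1 from ?_)).trans (dvd_of_eq (pow_one 2))
        by_contra hc
        exact hno4 ((pow_dvd_pow 2 (show 2 ≤ i by omega)).trans (he ▸ orderOf_dvd_natCard h))
      rcases (Nat.dvd_prime Nat.prime_two).1 hdh with h1 | h1
      · exact ⟨0, by rw [orderOf_eq_one_iff.1 h1]; exact IsConj.refl _⟩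
      · refine ⟨1, ?_⟩
        obtain ⟨c, -, q, hq, hq1, hc⟩ := JankoFourFive.exists_conj_of_card_prime (p := 2) (H := ⊤)
          (by rw [Subgroup.card_top]; exact hno4) (mem_top h)
          (mem_top (⟨t, hta⟩ : ↥(centralizer ({D.a} : Set G)))) h1 hto
        obtain ⟨n, hn⟩ := (mem_powers_iff_mem_zpowers.2 hq : q ∈ Submonoid.powers _)
        simp only at hn
        rw [← pow_mod_orderOf, hto] at hn
        rcases Nat.mod_two_eq_zero_or_one n with e | e <;> rw [e] at hn
        · exact absurd (hn ▸ pow_zero _ : q = 1) hq1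
        · rw [pow_one] at hn
          exact isConj_iff.2 ⟨c, hc.trans hn.symm⟩
  have hset : ∀ g : G, (11 ∣ orderOf g ∧ Avoid [23, 29, 31, 37, 43] (orderOf g)) ↔
      g ∈ partSet 11 D.c (Avoid [23, 29, 31, 37, 43]) ∪
        partSet 11 D.a (Avoid [23, 29, 31, 37, 43]) := by
    have hexp : ∀ g : G, ¬ 11 ^ 2 ∣ orderOf g := by
      intro g hg
      obtain ⟨k, hk⟩ := hg
      set x := g ^ k with hxdef
      have hx : orderOf x = 11 ^ 2 := by
        rw [hxdef, orderOf_pow' g (by rintro rfl; rw [mul_zero] at hk; exact (orderOf_pos g).ne' hk),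
          hk, Nat.gcd_eq_right (dvd_mul_left _ _), Nat.mul_div_cancel _ (Nat.pos_of_ne_zero (by
            rintro rfl; rw [mul_zero] at hk; exact (orderOf_pos g).ne' hk))]
      obtain ⟨T, hT⟩ := (IsPGroup.of_card (n := 2) (by rw [Nat.card_zpowers, hx] :
        Nat.card ↥(zpowers x) = 11 ^ 2)).exists_le_sylow
      obtain ⟨S, hS⟩ := D.exists_sylow_sub hcard
      obtain ⟨c, hc⟩ := MulAction.exists_smul_eq G T S
      have hxS : c * x * c⁻¹ ∈ D.sub := by
        rw [← hS, ← hc]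
        exact smul_mem_pointwise_smul x (MulAut.conj c) _ (hT (mem_zpowers x))
      obtain ⟨i, j, l, e⟩ := D.exists_nf hxS
      have h11 : orderOf (c * x * c⁻¹) ∣ 11 :=
        orderOf_dvd_of_pow_eq_one (e ▸ D.nf_pow_eleven i j l)
      rw [hord, hx] at h11
      norm_num at h11
    have hT : ∀ m, Avoid [23, 29, 31, 37, 43] (11 * m) ↔ Avoid [23, 29, 31, 37, 43] m := by
      intro m
      refine forall₂_congr fun q hq => not_congr ⟨fun h => ?_, fun h => h.mul_left 11⟩
      refine (Nat.Coprime.dvd_of_dvd_mul_left ?_ h)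
      simp only [List.mem_cons, List.not_mem_nil, or_false] at hq
      rcases hq with rfl | rfl | rfl | rfl | rfl <;> norm_num
    intro g
    constructor
    · rintro ⟨h11, hl⟩
      obtain ⟨u, v, rfl, huv, hu, hord', hv⟩ := exists_parts (by norm_num) h11 (hexp g)
      rw [hord', hT] at hl
      have key : ∀ x : G, IsConj u x → u * v ∈ partSet 11 x (Avoid [23, 29, 31, 37, 43]) := by
        intro x hx
        obtain ⟨d, rfl⟩ := isConj_iff.1 hx
        refine ⟨d * v * d⁻¹, ?_, by rw [hord]; exact hv, by rw [hord]; exact hl,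
          isConj_iff.2 ⟨d, by group⟩⟩
        exact (Commute.conj_iff d).2 huv
      exact (D.classes hcard hu).imp (key _) (key _)
    · have key : ∀ x : G, orderOf x = 11 → g ∈ partSet 11 x (Avoid [23, 29, 31, 37, 43]) →
          11 ∣ orderOf g ∧ Avoid [23, 29, 31, 37, 43] (orderOf g) := by
        rintro x hx ⟨v, hv, hvd, hvT, hg⟩
        rw [orderOf_isConj hg, hv.orderOf_mul_eq_mul_orderOf_of_coprime
          (hx ▸ ((by norm_num : Nat.Prime 11).coprime_iff_not_dvd).2 hvd), hx]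
        exact ⟨dvd_mul_right _ _, (hT _).2 hvT⟩
      exact fun h => h.elim (key _ D.c_order) (key _ D.a_order)
  rw [stage, (nCl_congr hset : nCl {g : G | 11 ∣ orderOf g ∧
      Avoid [23, 29, 31, 37, 43] (orderOf g)} = _), nCl_union ?_, nCl_partSet (by norm_num) D.c_order,
    nCl_partSet (by norm_num) D.a_order, nCl_c D hι hιc hιN hdvd, hA]
  rintro g ⟨v, hv, hvd, -, hg⟩ g' ⟨v', hv', hvd', -, hg'⟩ hgg
  obtain ⟨d, hd⟩ := isConj_iff.1 ((hg.symm.trans hgg).trans hg')
  exact D.not_conj (isConj_iff.2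
    ⟨d, (part_unique (by norm_num) D.c_order D.a_order hv hv' hvd hvd' hd).1⟩)

end CfsgLib.Spor.J4Class
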