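import Cfsg.Agent.Lib.Spor.J4Class.Large
import Cfsg.Agent.Lib.Spor.J4Local.ElevenInputs
import Cfsg.Agent.Lib.Spor.MathieuDegreeBound
import Cfsg.Agent.Lib.Spor.JankoFourFive.CentT
import Cfsg.Agent.Lib.Spor.JankoFour.ThreeCover
import Cfsg.Agent.S5566
import Cfsg.Agent.S5567
import Cfsg.Agent.S5568
import Cfsg.Agent.S5569

/-!
The centraliser of an element of order 11 in a group of Janko-four type has order dividing
`2^3 * 3 * 11^3`; its intersection with the centraliser of an involution has order dividing 264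
or 22 according to the class of the involution.
-/

set_option autoImplicit false
set_option maxRecDepth 100000
set_option linter.unusedSectionVars false
set_option linter.style.haveILetI false

namespace CfsgLib.Spor.J4Class.ElevenCl

open Subgroup CfsgLib.Spor.J4Local

section Aut

open CfsgLib.Spor CfsgLib.MathieuOut CfsgLib.Spor.JankoFourFive CfsgLib.Spor.JankoFourCentral
  CfsgLib.Spor.BlockData

theorem aut_checks :
    primeEltOK [duadM] [] 11 m22e11 m22e11Act 3 = true ∧ planOK m22e11 m22e11Plan [] = true ∧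
      centListOK [duadM] [] m22e11 m22e11Plan = true ∧
      (dfs [duadM] [] m22e11 m22e11 m22e11Plan []).length = 11 ∧
      (dfs [duadM] [] m22e11 m22e11 m22e11Plan []).Nodup :=
  ⟨by decide +kernel, by decide +kernel, by decide +kernel, by decide +kernel, by decide +kernel⟩

/-- an element of order 11 of the automorphism group of `M22` is self-centralising -/
theorem card_centralizer_aut (q : MulAut ↥Cfsg.Spor.M22) (hq : orderOf q = 11) :
    Nat.card ↥(centralizer ({q} : Set (MulAut ↥Cfsg.Spor.M22))) = 11 := by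
  haveI : Fact (Nat.Prime 11) := ⟨by norm_num⟩
  obtain ⟨h1, h2, h3, h4, h5⟩ := aut_checks
  obtain ⟨σ, rσ, hσ, -⟩ := exists_prime_elt (H := stabG [duadM] []) rfl rfl (q := 11) h1
  have hcA := natCard_centralizer_cert (H := stabG [duadM] []) rfl rfl h2 h3 h5 h4 σ rσ
  obtain ⟨e⟩ := nonempty_duadStab_autM22
  let e' := (MulEquiv.subgroupCongr duadStab_eq).trans e
  obtain ⟨a, rfl⟩ := e'.surjective q
  rw [MulEquiv.orderOf_eq] at hq
  have hcard : Nat.card (stabG [duadM] []) = 2 * 443520 := by rw [duadStab_eq, natCard_duadStab]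
  obtain ⟨c, -, q', hq', hq1, hc⟩ := exists_conj_of_card_prime (H := ⊤) (p := 11)
    (by rw [Subgroup.card_top, hcard]; norm_num) (Subgroup.mem_top a) (Subgroup.mem_top σ) hq hσ
  rw [← centralizer_eq_of_mem_zpowers hσ hq' hq1, ← hc] at hcA
  have h1 : Nat.card ↥(centralizer ({a} : Set (stabG [duadM] []))) = 11 := by
    rw [← hcA]
    refine Nat.card_congr ((MulAut.conj c).toEquiv.subtypeEquiv fun g => ?_)
    show g ∈ centralizer ({a} : Set _) ↔ MulAut.conj c g ∈ centralizer ({c * a * c⁻¹} : Set _)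
    rw [mem_centralizer_singleton_iff, mem_centralizer_singleton_iff,
      show c * a * c⁻¹ = MulAut.conj c a from (MulAut.conj_apply _ _).symm, ← map_mul, ← map_mul,
      (MulAut.conj c).injective.eq_iff]
  rw [← h1]
  exact (Nat.card_congr (e'.toEquiv.subtypeEquiv fun g => by
    show g ∈ centralizer ({a} : Set _) ↔ e' g ∈ centralizer ({e' a} : Set _)
    rw [mem_centralizer_singleton_iff, mem_centralizer_singleton_iff,
      ← map_mul, ← map_mul, e'.injective.eq_iff])).symm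

end Aut

variable {G : Type*} [Group G] [Finite G]

/-- the centraliser of `x` in a subgroup mapped onto `Aut M22` with kernel prime to 11 -/
theorem card_inf_dvd {C : Subgroup G} (θ : ↥C →* MulAut ↥Cfsg.Spor.M22) {x : G} (hx : x ∈ C)
    (hx11 : orderOf x = 11) (hk : ¬ 11 ∣ Nat.card ↥θ.ker) :
    Nat.card ↥(C ⊓ centralizer ({x} : Set G)) ∣
      11 * Nat.card ↥(θ.ker.map C.subtype ⊓ centralizer ({x} : Set G)) := by
  have hθ : orderOf (θ ⟨x, hx⟩) = 11 := by
    refine ((Nat.dvd_prime (by norm_num : Nat.Prime 11)).1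
      ((orderOf_map_dvd θ _).trans (dvd_of_eq (by rw [Subgroup.orderOf_mk, hx11])))).resolve_left
      fun h => hk ?_
    rw [← hx11, ← Subgroup.orderOf_mk x hx]
    exact orderOf_dvd_natCard _ (orderOf_eq_one_iff.1 h)
  set K := (centralizer ({x} : Set G)).subgroupOf C with hK
  let ψ : ↥K →* MulAut ↥Cfsg.Spor.M22 := θ.comp K.subtype
  have hKc : Nat.card ↥K = Nat.card ↥(C ⊓ centralizer ({x} : Set G)) := by
    rw [← card_map_of_injective (K := K) C.subtype_injective, hK, subgroupOf_map_subtype, inf_comm]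
  rw [← hKc, ← ψ.ker.card_mul_index, Subgroup.index_ker, mul_comm]
  refine mul_dvd_mul ?_ ?_
  · rw [← card_centralizer_aut _ hθ]
    refine card_dvd_of_le ?_
    rintro _ ⟨k, rfl⟩
    refine mem_centralizer_singleton_iff.2 ?_
    show θ (k : ↥C) * θ ⟨x, hx⟩ = θ ⟨x, hx⟩ * θ (k : ↥C)
    rw [← map_mul, ← map_mul]
    exact congrArg θ (Subtype.ext (mem_centralizer_singleton_iff.1 k.2))
  · rw [← card_map_of_injective (K := ψ.ker) (f := C.subtype.comp K.subtype)
      (C.subtype_injective.comp K.subtype_injective)]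
    refine card_dvd_of_le ?_
    rintro _ ⟨k, hk', rfl⟩
    exact ⟨⟨(k : ↥C), hk', rfl⟩, k.2⟩

/-- the fixed points of an element of order 11 on a 2-group -/
theorem card_fixed {E : Subgroup G} {n : ℕ} (hE : Nat.card ↥E = 2 ^ n) {x : G}
    (hx : orderOf x = 11) (hxN : x ∈ normalizer (E : Set G)) :
    ∃ f ≤ n, Nat.card ↥(E ⊓ centralizer ({x} : Set G)) = 2 ^ f ∧ 2 ^ n % 11 = 2 ^ f % 11 := by
  haveI : Fact (Nat.Prime 11) := ⟨by norm_num⟩
  obtain ⟨f, hf, hfc⟩ := (Nat.dvd_prime_pow Nat.prime_two).1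
    ((card_dvd_of_le (inf_le_left : E ⊓ centralizer ({x} : Set G) ≤ E)).trans (dvd_of_eq hE))
  refine ⟨f, hf, hfc, ?_⟩
  let ρ : ↥(zpowers x) →* MulAut ↥E :=
    E.normalizerMonoidHom.comp (inclusion (zpowers_le.2 hxN))
  letI : MulAction ↥(zpowers x) ↥E := MulAction.compHom ↥E ρ
  have hp : IsPGroup 11 ↥(zpowers x) :=
    IsPGroup.of_card (n := 1) (by rw [Nat.card_zpowers, hx, pow_one])
  have h := hp.card_modEq_card_fixedPoints ↥E
  rw [hE] at h
  rw [← hfc]
  refine h.trans (congrArg (· % 11) (Nat.card_congr (Equiv.mk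
    (fun e => (⟨((e : ↥E) : G), (e : ↥E).2, ?_⟩ : ↥(E ⊓ centralizer ({x} : Set G))))
    (fun e => ⟨⟨(e : G), e.2.1⟩, ?_⟩) (fun _ => rfl) (fun _ => rfl))))
  · have h1 : x * ((e : ↥E) : G) * x⁻¹ = ((e : ↥E) : G) :=
      congrArg Subtype.val (e.2 ⟨x, mem_zpowers x⟩)
    exact mem_centralizer_singleton_iff.2 (mul_inv_eq_iff_eq_mul.1 h1).symm
  · rintro ⟨g, hg⟩
    obtain ⟨k, rfl⟩ := mem_zpowers_iff.1 hg
    refine Subtype.ext ?_
    show x ^ k * (e : G) * (x ^ k)⁻¹ = (e : G)
    exact mul_inv_eq_iff_eq_mul.2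
      ((show Commute x (e : G) from (mem_centralizer_singleton_iff.1 e.2.2).symm).zpow_left k).eq

/-- a map onto the complement of a normal subgroup -/
theorem exists_hom_split {A : Type*} [Group A] {C V K : Subgroup G} (hVC : V ≤ C) (hKC : K ≤ C)
    (hN : C ≤ normalizer (V : Set G)) (hinf : K ⊓ V = ⊥) (hsup : K ⊔ V = C) (e : ↥K ≃* A) :
    ∃ θ : ↥C →* A, θ.ker.map C.subtype = V := by
  haveI : (V.subgroupOf C).Normal := Subgroup.normal_subgroupOf_of_le_normalizer hN
  let π : ↥K →* ↥C ⧸ V.subgroupOf C :=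
    (QuotientGroup.mk' (V.subgroupOf C)).comp (Subgroup.inclusion hKC)
  have hπ : Function.Bijective π := by
    constructor
    · rw [injective_iff_map_eq_one]
      intro k hk
      rw [MonoidHom.comp_apply, QuotientGroup.mk'_apply, QuotientGroup.eq_one_iff] at hk
      have hk' : (k : G) ∈ K ⊓ V := ⟨k.2, hk⟩
      rw [hinf] at hk'
      exact Subtype.ext hk'
    · intro q
      induction q using QuotientGroup.induction_on with
      | H m =>
        have hm : (m : G) ∈ ((K ⊔ V : Subgroup G) : Set G) := by rw [SetLike.mem_coe, hsup]; exact m.2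
        rw [coe_mul_of_left_le_normalizer_right K V (hKC.trans hN)] at hm
        obtain ⟨k, hk, v, hv, hkv⟩ := hm
        refine ⟨⟨k, hk⟩, ?_⟩
        rw [MonoidHom.comp_apply, QuotientGroup.mk'_apply, QuotientGroup.eq]
        show (k : G)⁻¹ * (m : G) ∈ V
        rw [← hkv]
        simpa using hv
  set eC := (MulEquiv.ofBijective π hπ).symm.trans e
  refine ⟨eC.toMonoidHom.comp (QuotientGroup.mk' _), ?_⟩
  have hk : (eC.toMonoidHom.comp (QuotientGroup.mk' (V.subgroupOf C))).ker = V.subgroupOf C := by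
    ext u
    rw [MonoidHom.mem_ker, MonoidHom.comp_apply, MulEquiv.coe_toMonoidHom,
      map_eq_one_iff eC eC.injective, QuotientGroup.mk'_apply, QuotientGroup.eq_one_iff]
  rw [hk, subgroupOf_map_subtype, inf_eq_left]
  exact hVC

/-- a subgroup of order `r^m` gives an element of order `r` with a large centraliser -/
theorem exists_central_elem {r m : ℕ} [Fact r.Prime] (hm : m ≠ 0) {x : G}
    (h : r ^ m ∣ Nat.card ↥(centralizer ({x} : Set G))) :
    ∃ y : G, orderOf y = r ∧ y ∈ centralizer ({x} : Set G) ∧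
      r ^ m ∣ Nat.card ↥(centralizer ({y} : Set G) ⊓ centralizer ({x} : Set G)) := by
  obtain ⟨T, hT⟩ := Sylow.exists_subgroup_card_pow_prime r h
  have hp : IsPGroup r ↥T := IsPGroup.of_card hT
  haveI : Nontrivial ↥T := Finite.one_lt_card_iff_nontrivial.1 (by
    rw [hT]; exact Nat.one_lt_pow hm (Fact.out : r.Prime).one_lt)
  haveI := hp.center_nontrivial
  obtain ⟨k, hk⟩ := IsPGroup.iff_card.1 (hp.to_subgroup (Subgroup.center ↥T))
  have hk0 : k ≠ 0 := by
    rintro rfl
    exact absurd (Finite.one_lt_card (α := ↥(Subgroup.center ↥T))) (by rw [hk, pow_zero]; exact lt_irrefl 1)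
  obtain ⟨y, hy⟩ := exists_prime_orderOf_dvd_card' (G := ↥(Subgroup.center ↥T)) r
    (hk ▸ dvd_pow_self r hk0)
  refine ⟨((y : ↥T) : ↥(centralizer ({x} : Set G))), ?_, SetLike.coe_mem _, ?_⟩
  · rw [Subgroup.orderOf_coe, Subgroup.orderOf_coe, Subgroup.orderOf_coe, hy]
  · rw [← hT, ← card_map_of_injective (K := T) (centralizer ({x} : Set G)).subtype_injective]
    refine card_dvd_of_le ?_
    rintro _ ⟨t, ht, rfl⟩
    refine ⟨mem_centralizer_singleton_iff.2 ?_, t.2⟩
    exact congrArg (fun u : ↥T => ((u : ↥(centralizer ({x} : Set G))) : G))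
      (Subgroup.mem_center_iff.1 y.2 ⟨t, ht⟩)

variable [IsSimpleGroup G] (hG : ¬ IsMulCommutative G) {z : G} {P : Subgroup G}
  (hJ : Cfsg.IsOfJankoFourTypeWith z P)
include hG hJ

/-- with the central involution -/
theorem card_H_inf {x : G} (hx : orderOf x = 11) (hxH : x ∈ centralizer ({z} : Set G)) :
    Nat.card ↥(centralizer ({z} : Set G) ⊓ centralizer ({x} : Set G)) ∣ 264 := by
  haveI : Fact (Nat.Prime 2) := ⟨Nat.prime_two⟩
  set H := centralizer ({z} : Set G) with hH
  obtain ⟨N, θ, hθ, hker, hNc, -, -, -, -⟩ := CfsgLib.Spor.JankoFour.ThreeLocal.exists_kernel_frame hJ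
  rw [← hker] at hNc
  have h1 := card_inf_dvd θ hxH hx (by rw [hNc]; norm_num)
  refine h1.trans ?_
  rw [show (264 : ℕ) = 11 * 24 by norm_num]
  refine mul_dvd_mul_left 11 ?_
  set E := Cfsg.twoCoreOfCentralizer z with hEdef
  have hEc : Nat.card ↥E = 2 ^ 13 := hJ.2.2.1
  have hEH : E ≤ H := Subgroup.map_subtype_le _
  have hEN : H ≤ normalizer (E : Set G) := by
    intro h hh
    refine mem_normalizer_fintype fun y hy => ?_
    obtain ⟨w, hw, rfl⟩ := hy
    exact ⟨⟨h, hh⟩ * w * (⟨h, hh⟩ : ↥H)⁻¹,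
      (Cfsg.pCore_normal 2 ↥H).conj_mem w hw _, rfl⟩
  have hEker : E ≤ θ.ker.map H.subtype := by
    haveI := Cfsg.pCore_normal 2 ↥H
    haveI : ((Cfsg.pCore 2 ↥H).map θ).Normal := Subgroup.Normal.map inferInstance θ hθ
    have hb : (Cfsg.pCore 2 ↥H).map θ = ⊥ :=
      CfsgLib.Spor.JankoFour.ThreeLocal.eq_bot_of_normal_aut (by
        refine (Subgroup.card_map_dvd _ _).trans ?_
        have : Nat.card ↥(Cfsg.pCore 2 ↥H) = 2 ^ 13 := by
          rw [← card_map_of_injective (K := Cfsg.pCore 2 ↥H) H.subtype_injective]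
          exact hEc
        rw [this]; norm_num)
    exact map_mono ((Subgroup.map_eq_bot_iff _).1 hb)
  obtain ⟨f, hf, hfc, hmod⟩ := card_fixed hEc hx (hEN hxH)
  have hf13 : f ≠ 13 := by
    rintro rfl
    have hle : E ≤ centralizer ({x} : Set G) :=
      inf_eq_left.1 (Subgroup.eq_of_le_of_card_ge inf_le_left (by rw [hfc, hEc]))
    have hxE : x ∈ E := hJ.2.2.2.1 ⟨hxH, mem_centralizer_iff.2 fun e he =>
      mem_centralizer_singleton_iff.1 (hle he)⟩
    have h11 := Subgroup.orderOf_dvd_natCard E hxE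
    rw [hx, hEc] at h11
    norm_num at h11
  have hf3 : f = 3 := by
    interval_cases f <;> first | rfl | omega
  subst hf3
  set K := θ.ker.map H.subtype ⊓ centralizer ({x} : Set G) with hKdef
  have hKd : Nat.card ↥K ∣ 2 ^ 13 * 3 := by
    refine (card_dvd_of_le inf_le_left).trans (dvd_of_eq ?_)
    rw [card_map_of_injective H.subtype_injective, hNc]
    norm_num
  have h16 : ¬ 16 ∣ Nat.card ↥K := by
    intro h
    obtain ⟨T, hT⟩ := Sylow.exists_subgroup_card_pow_prime 2 (n := 4) (G := ↥K) (by simpa using h)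
    set T' := T.map K.subtype with hT'def
    have hT'K : T' ≤ K := Subgroup.map_subtype_le _
    have hT'c : Nat.card ↥T' = 2 ^ 4 := by rw [hT'def, card_map_of_injective K.subtype_injective, hT]
    have hTH : T' ≤ H := hT'K.trans (inf_le_left.trans (Subgroup.map_subtype_le _))
    have hp : IsPGroup 2 ↥(T' ⊔ E) := (IsPGroup.of_card hT'c).to_sup_of_normal_right'
      (IsPGroup.of_card hEc) (hTH.trans hEN)
    obtain ⟨j, hj⟩ := IsPGroup.iff_card.1 hp
    have hd : 2 ^ j ∣ 2 ^ 13 * 3 := by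
      rw [← hj]
      refine (card_dvd_of_le (sup_le (hT'K.trans inf_le_left) hEker)).trans (dvd_of_eq ?_)
      rw [card_map_of_injective H.subtype_injective, hNc]
      norm_num
    have hj13 : j ≤ 13 := (Nat.pow_dvd_pow_iff_le_right (by norm_num)).1
      (((Nat.coprime_primes Nat.prime_two Nat.prime_three).2 (by norm_num)).pow_left j
        |>.dvd_of_dvd_mul_right hd)
    have heq : T' ⊔ E = E := (Subgroup.eq_of_le_of_card_ge le_sup_right (by
      rw [hEc, hj]; exact Nat.pow_le_pow_right (by norm_num) hj13)).symm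
    have hTE : T' ≤ E ⊓ centralizer ({x} : Set G) :=
      le_inf (heq ▸ le_sup_left) (hT'K.trans inf_le_right)
    have h8 := card_dvd_of_le hTE
    rw [hT'c, hfc] at h8
    norm_num at h8
  obtain ⟨a, b, ha, hb, hab⟩ := exists_dvd_and_dvd_of_dvd_mul hKd
  obtain ⟨i, hi, rfl⟩ := (Nat.dvd_prime_pow Nat.prime_two).1 ha
  have hi3 : i ≤ 3 := by
    by_contra hc
    exact h16 (hab ▸ Dvd.dvd.mul_right (pow_dvd_pow 2 (show 4 ≤ i by omega)) b)
  rw [hab, show (24 : ℕ) = 2 ^ 3 * 3 by norm_num]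
  exact mul_dvd_mul (pow_dvd_pow 2 hi3) hb

/-- with an involution conjugate to `z` -/
theorem card_conj_inf {x t : G} (hx : orderOf x = 11) (ht : IsConj z t)
    (hxt : x ∈ centralizer ({t} : Set G)) :
    Nat.card ↥(centralizer ({t} : Set G) ⊓ centralizer ({x} : Set G)) ∣ 264 := by
  obtain ⟨g, rfl⟩ := isConj_iff.1 ht
  have hx' : x = g * (g⁻¹ * x * g) * g⁻¹ := by group
  have hH : g⁻¹ * x * g ∈ centralizer ({z} : Set G) := by
    rw [mem_centralizer_singleton_iff] at hxt ⊢
    calc g⁻¹ * x * g * z = g⁻¹ * (x * (g * z * g⁻¹)) * g := by group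
      _ = z * (g⁻¹ * x * g) := by rw [hxt]; group
  rw [hx', JankoFourFive.card_cent_conj]
  refine card_H_inf hG hJ ?_ hH
  rw [← hx, show g⁻¹ * x * g = MulAut.conj g⁻¹ x by simp, MulEquiv.orderOf_eq]

/-- the order of the centraliser of an involution of the second kind is divisible by 11 -/
theorem eleven_dvd_other {t : G} (ht : orderOf t = 2) (hnc : ¬ IsConj z t) :
    11 ∣ Nat.card ↥(centralizer ({t} : Set G)) := by
  obtain ⟨V, K, -, hK, -, -, -, -, -, ⟨e⟩⟩ := Cfsg.Agent.S5569.result hG z ⟨P, hJ⟩ t ht hnc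
  refine Dvd.dvd.trans ?_ (card_dvd_of_le hK)
  rw [Nat.card_congr e.toEquiv, CfsgLib.Spor.JankoFourCentral.natCard_mulAut_M22]
  norm_num

/-- with an involution of the second kind -/
theorem card_other_inf {x t : G} (hx : orderOf x = 11) (ht : orderOf t = 2) (hnc : ¬ IsConj z t)
    (hxt : x ∈ centralizer ({t} : Set G)) :
    Nat.card ↥(centralizer ({t} : Set G) ⊓ centralizer ({x} : Set G)) ∣ 22 := by
  obtain ⟨V, K, hV, hK, hN, hVe, hVc, hinf, hsup, ⟨e⟩⟩ :=
    Cfsg.Agent.S5569.result hG z ⟨P, hJ⟩ t ht hnc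
  obtain ⟨θ, hθ⟩ := exists_hom_split hV hK hN hinf hsup e
  have hkc : Nat.card ↥θ.ker = 2 ^ 11 := by
    rw [← card_map_of_injective (K := θ.ker) (centralizer ({t} : Set G)).subtype_injective, hθ, hVc]
  refine (card_inf_dvd θ hxt hx (by rw [hkc]; norm_num)).trans ?_
  rw [hθ, show (22 : ℕ) = 11 * 2 by norm_num]
  refine mul_dvd_mul_left 11 ?_
  obtain ⟨f, hf, hfc, hmod⟩ := card_fixed hVc hx (hN hxt)
  have hf11 : f ≠ 11 := by
    rintro rfl
    have hle : V ≤ centralizer ({x} : Set G) :=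
      inf_eq_left.1 (Subgroup.eq_of_le_of_card_ge inf_le_left (by rw [hfc, hVc]))
    have hxV : x ∈ V := (Cfsg.Agent.S5567.result hG ⟨z, P, hJ⟩ V hVe hVc).1
      (mem_centralizer_iff.2 fun e he => mem_centralizer_singleton_iff.1 (hle he))
    have h11 := Subgroup.orderOf_dvd_natCard V hxV
    rw [hx, hVc] at h11
    norm_num at h11
  have hf1 : f = 1 := by
    interval_cases f <;> first | rfl | omega
  rw [hfc, hf1]
  norm_num

/-- an involution of the second kind -/
theorem exists_other : ∃ t : G, orderOf t = 2 ∧ ¬ IsConj z t := by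
  haveI : Fact (Nat.Prime 2) := ⟨Nat.prime_two⟩
  obtain ⟨V, ⟨-, hV, hVc⟩, -⟩ := Cfsg.Agent.S5566.result hG ⟨z, P, hJ⟩ (default : Sylow 2 G)
  obtain ⟨-, t, -, ht, ht1, -, hnc, -⟩ := Cfsg.Agent.S5568.result hG z ⟨P, hJ⟩ V hV hVc
  exact ⟨t, orderOf_eq_prime (hV.2 t ht) ht1, hnc⟩

/-- the centraliser of an element of order 3 fixes a conjugate of `z` -/
theorem exists_three {p : G} (hp : orderOf p = 3) :
    ∃ t : G, IsConj z t ∧ centralizer ({p} : Set G) ≤ centralizer ({t} : Set G) := by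
  obtain ⟨y, hy⟩ := exists_prime_orderOf_dvd_card' (G := ↥P) 3
    (hp := ⟨Nat.prime_three⟩) (by rw [hJ.2.2.2.2.2.1])
  obtain ⟨g, hg⟩ := isConj_iff.1
    (Cfsg.Agent.S5564.result hG ⟨z, P, hJ⟩ (y : G) p (by rw [Subgroup.orderOf_coe, hy]) hp)
  have hPy : zpowers (y : G) = P :=
    Subgroup.eq_of_le_of_card_ge (zpowers_le.2 y.2)
      (by rw [Nat.card_zpowers, Subgroup.orderOf_coe, hy, hJ.2.2.2.2.2.1])
  refine ⟨g * z * g⁻¹, isConj_iff.2 ⟨g, rfl⟩, fun h hh => ?_⟩
  rw [← hg, mem_centralizer_singleton_iff] at hh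
  have h1 : g⁻¹ * h * g ∈ centralizer ({(y : G)} : Set G) := by
    rw [mem_centralizer_singleton_iff]
    calc g⁻¹ * h * g * (y : G) = g⁻¹ * (h * (g * (y : G) * g⁻¹)) * g := by group
      _ = (y : G) * (g⁻¹ * h * g) := by rw [hh]; group
  have h2 := (Cfsg.Agent.S5563.result hG z P hJ).2.2.2.2
    (hPy ▸ centralizer_le_normalizer_zpowers (y : G) h1)
  rw [mem_centralizer_singleton_iff] at h2 ⊢
  calc h * (g * z * g⁻¹) = g * (g⁻¹ * h * g * z) * g⁻¹ := by group
    _ = g * z * g⁻¹ * h := by rw [h2]; group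

variable (φ : G ≃* Cfsg.Spor.J4)
include φ

theorem not_dvd_cent {x : G} (hx : orderOf x = 11) :
    ∀ r ∈ [5, 7, 23, 29, 31, 37, 43], ¬ r ∣ Nat.card ↥(centralizer ({x} : Set G)) := by
  intro r hr hd
  have hrp : r.Prime := by
    simp only [List.mem_cons, List.not_mem_nil, or_false] at hr
    rcases hr with rfl | rfl | rfl | rfl | rfl | rfl | rfl <;> norm_num
  haveI := Fact.mk hrp
  obtain ⟨⟨y, hyC⟩, hy⟩ := exists_prime_orderOf_dvd_card' (G := ↥(centralizer ({x} : Set G))) r hd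
  rw [Subgroup.orderOf_mk] at hy
  have hxy : x ∈ centralizer ({y} : Set G) :=
    mem_centralizer_singleton_iff.2 (mem_centralizer_singleton_iff.1 hyC).symm
  have h11 : 11 ∣ Nat.card ↥(centralizer ({y} : Set G)) := by
    rw [← hx]; exact Subgroup.orderOf_dvd_natCard _ hxy
  have hz := card_centralizer_z (G := G) ⟨P, hJ⟩
  have hQ : ∀ q : ℕ, q.Prime → q ∣ 2 ^ 21 * 10395 → ∃ Q : Subgroup G, Nat.card ↥Q = q ∧
      Q ≤ centralizer ({z} : Set G) := by
    intro q hq hqd
    haveI := Fact.mk hq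
    obtain ⟨w, hw⟩ := exists_prime_orderOf_dvd_card'
      (G := ↥(centralizer ({z} : Set G))) q (hz ▸ hqd)
    exact ⟨zpowers (w : G), by rw [Nat.card_zpowers, Subgroup.orderOf_coe, hw],
      zpowers_le.2 w.2⟩
  simp only [List.mem_cons, List.not_mem_nil, or_false] at hr
  rcases hr with rfl | rfl | h
  · obtain ⟨Q, hQc, hQz⟩ := hQ 5 (by norm_num) (by norm_num)
    obtain ⟨h25, -, -, hN⟩ := Cfsg.Agent.S5572.result hG z ⟨P, hJ⟩ Q hQc hQz
    exact absurd (h11.trans (dvd_normalizer_of_simple_sylow h25 Q hQc hN hy)) (by norm_num)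
  · obtain ⟨Q, hQc, hQz⟩ := hQ 7 (by norm_num) (by norm_num)
    obtain ⟨h49, -, -, hN⟩ := Cfsg.Agent.S5573.result hG z ⟨P, hJ⟩ Q hQc hQz
    exact absurd (h11.trans (dvd_normalizer_of_simple_sylow h49 Q hQc hN hy)) (by norm_num)
  · refine eleven_not_dvd (natCard_iso φ) (large_at hG hJ φ) r
      (by simp only [bigs, List.mem_cons, List.not_mem_nil, or_false]; omega) (zpowers y)
      (by rw [Nat.card_zpowers, hy]) ?_
    rwa [zpowers_eq_closure, centralizer_closure]

/-- the bound for every element of order 11 -/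
theorem card_cent_dvd {x : G} (hx : orderOf x = 11) :
    Nat.card ↥(centralizer ({x} : Set G)) ∣ 31944 := by
  have h16 : ¬ 2 ^ 4 ∣ Nat.card ↥(centralizer ({x} : Set G)) := by
    intro h
    haveI : Fact (Nat.Prime 2) := ⟨Nat.prime_two⟩
    obtain ⟨t, ht, htx, htd⟩ := exists_central_elem (by norm_num) h
    have hxt : x ∈ centralizer ({t} : Set G) :=
      mem_centralizer_singleton_iff.2 (mem_centralizer_singleton_iff.1 htx).symm
    by_cases hc : IsConj z t
    · exact absurd (htd.trans (card_conj_inf hG hJ hx hc hxt)) (by norm_num)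
    · exact absurd (htd.trans (card_other_inf hG hJ hx ht hc hxt)) (by norm_num)
  have h9 : ¬ 3 ^ 2 ∣ Nat.card ↥(centralizer ({x} : Set G)) := by
    intro h
    haveI : Fact (Nat.Prime 3) := ⟨Nat.prime_three⟩
    obtain ⟨p, hp, hpx, hpd⟩ := exists_central_elem (by norm_num) h
    obtain ⟨t, ht, hle⟩ := exists_three hG hJ hp
    have hxp : x ∈ centralizer ({p} : Set G) :=
      mem_centralizer_singleton_iff.2 (mem_centralizer_singleton_iff.1 hpx).symm
    exact absurd ((hpd.trans (card_dvd_of_le (inf_le_inf_right _ hle))).trans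
      (card_conj_inf hG hJ hx ht (hle hxp))) (by norm_num)
  set d := Nat.card ↥(centralizer ({x} : Set G)) with hd
  have hdG : d ∣ 2 ^ 21 * 3 ^ 3 * 11 ^ 3 * (5 * 7 * 23 * 29 * 31 * 37 * 43) := by
    rw [show 2 ^ 21 * 3 ^ 3 * 11 ^ 3 * (5 * 7 * 23 * 29 * 31 * 37 * 43) = ord4 by
      unfold ord4; norm_num, ← natCard_iso φ]
    exact card_subgroup_dvd_card _
  have hnd := not_dvd_cent hG hJ φ hx
  have hco : ∀ r ∈ [5, 7, 23, 29, 31, 37, 43], r.Prime → Nat.Coprime d r := fun r hr hp =>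
    ((hp.coprime_iff_not_dvd).2 (hnd r hr)).symm
  have hd3 := Nat.Coprime.dvd_of_dvd_mul_right
    (((((((hco 5 (by simp) (by norm_num)).mul_right (hco 7 (by simp) (by norm_num))).mul_right
      (hco 23 (by simp) (by norm_num))).mul_right (hco 29 (by simp) (by norm_num))).mul_right
      (hco 31 (by simp) (by norm_num))).mul_right (hco 37 (by simp) (by norm_num))).mul_right
      (hco 43 (by simp) (by norm_num))) hdG
  obtain ⟨ab, c, hab, hc, he⟩ := exists_dvd_and_dvd_of_dvd_mul hd3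
  obtain ⟨a, b, ha, hb, rfl⟩ := exists_dvd_and_dvd_of_dvd_mul hab
  obtain ⟨i, hi, rfl⟩ := (Nat.dvd_prime_pow Nat.prime_two).1 ha
  obtain ⟨j, hj, rfl⟩ := (Nat.dvd_prime_pow Nat.prime_three).1 hb
  have hi3 : i ≤ 3 := by
    by_contra h
    exact h16 (he ▸ (Dvd.dvd.mul_right (Dvd.dvd.mul_right (pow_dvd_pow 2 (show 4 ≤ i by omega)) _) _))
  have hj1 : j ≤ 1 := by
    by_contra h
    exact h9 (he ▸ (Dvd.dvd.mul_right (Dvd.dvd.mul_left (pow_dvd_pow 3 (show 2 ≤ j by omega)) _) _))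
  rw [he, show (31944 : ℕ) = 2 ^ 3 * 3 ^ 1 * 11 ^ 3 by norm_num]
  exact mul_dvd_mul (mul_dvd_mul (pow_dvd_pow 2 hi3) (pow_dvd_pow 3 hj1)) hc

end CfsgLib.Spor.J4Class.ElevenCl
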