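import Cfsg.Agent.Lib.Spor.J4Class.Part

/-!
The classes of a finite group sorted by the first of a list of primes dividing the order, the
stage of a prime with a self-centralising subgroup, and transport to conjugate elements.
-/

set_option autoImplicit false
set_option linter.unusedSectionVars false
set_option linter.style.haveILetI false

namespace CfsgLib.Spor.J4Class

open Subgroup

variable {G : Type*} [Group G] [Finite G]

/-- no prime of the list divides -/
def Avoid (l : List ℕ) (n : ℕ) : Prop := ∀ q ∈ l, ¬ q ∣ n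

/-- the classes with order divisible by `p` and by no prime of the list -/
noncomputable def stage (G : Type*) [Group G] (p : ℕ) (l : List ℕ) : ℕ :=
  nCl {g : G | p ∣ orderOf g ∧ Avoid l (orderOf g)}

theorem nCl_avoid_nil : nCl {g : G | Avoid [] (orderOf g)} = Nat.card (ConjClasses G) := by
  rw [← nCl_univ]
  exact nCl_congr fun a => by simp [Avoid]

theorem nCl_avoid_step (p : ℕ) (l : List ℕ) :
    nCl {g : G | Avoid l (orderOf g)} =
      stage G p l + nCl {g : G | Avoid (p :: l) (orderOf g)} := by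
  rw [nCl_split (Avoid l) (fun n => p ∣ n), stage]
  congr 1 <;> refine nCl_congr fun a => ?_
  · exact and_comm
  · simp [Avoid, and_comm]

/-- the stage of `p` from the classes of elements of order `p` and their centralisers -/
theorem stage_eq {p k c : ℕ} (hp : p.Prime) (hexp : ∀ g : G, ¬ p ^ 2 ∣ orderOf g) {l : List ℕ}
    (hl : ∀ q ∈ l, q.Prime ∧ q ≠ p) (hc : nCl {x : G | orderOf x = p} = c)
    (hk : ∀ x : G, orderOf x = p → nCl {h : ↥(centralizer ({x} : Set G)) |
      ¬ p ∣ orderOf h ∧ Avoid l (orderOf h)} = k) : stage G p l = c * k := by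
  rw [← nCl_sections hp hexp (Avoid l) hc hk, stage]
  refine nCl_congr fun g => and_congr_right fun ⟨m, hm⟩ => ?_
  rw [hm, Nat.mul_div_cancel_left _ hp.pos]
  refine forall₂_congr fun q hq => not_congr ⟨fun h => ?_, fun h => h.mul_left p⟩
  exact ((hl q hq).1.dvd_mul.1 h).resolve_left fun h' =>
    (hl q hq).2 ((Nat.prime_dvd_prime_iff_eq (hl q hq).1 hp).1 h')

theorem not_sq_dvd_orderOf {p : ℕ} (h : ¬ p ^ 2 ∣ Nat.card G) (g : G) : ¬ p ^ 2 ∣ orderOf g :=
  fun h' => h (h'.trans (orderOf_dvd_natCard g))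

/-- the stage of a prime with self-centralising subgroups of order `p` -/
theorem stage_self_centralizing {p e c : ℕ} (hp : p.Prime) (h2 : ¬ p ^ 2 ∣ Nat.card G)
    (hd : p ∣ Nat.card G) (he : 0 < e) (hpe : c * e = p - 1) {l : List ℕ}
    (hl : ∀ q ∈ l, q.Prime ∧ q ≠ p)
    (hU : ∀ U : Sylow p G, centralizer ((U : Subgroup G) : Set G) = (U : Subgroup G) ∧
      Nat.card ↥(normalizer ((U : Subgroup G) : Set G)) = p * e) : stage G p l = c := by
  haveI := Fact.mk hp
  have hf : (Nat.card G).factorization p = 1 := by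
    apply le_antisymm
    · by_contra h
      exact h2 ((hp.pow_dvd_iff_le_factorization Nat.card_pos.ne').2 (by omega))
    · exact (hp.pow_dvd_iff_le_factorization Nat.card_pos.ne').1 (by rwa [pow_one])
  have hx : ∀ x : G, orderOf x = p → Nat.card ↥(centralizer ({x} : Set G)) = p ∧
      Nat.card ↥(normalizer (zpowers x : Set G)) = p * e := by
    intro x hx
    let U : Sylow p G := Sylow.ofCard (zpowers x) (by rw [Nat.card_zpowers, hx, hf, pow_one])
    obtain ⟨h1, h2⟩ := hU U
    rw [Sylow.coe_ofCard] at h1 h2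
    refine ⟨?_, h2⟩
    rw [← centralizer_closure, ← zpowers_eq_closure, h1, Nat.card_zpowers, hx]
  obtain ⟨u, hu⟩ := exists_prime_orderOf_dvd_card' (G := G) p hd
  have hcount : nCl {x : G | orderOf x = p} = c := by
    have h := nCl_prime_order hp h2 hu (hx u hu).1 (hx u hu).2
    rw [← hpe] at h
    refine Nat.eq_of_mul_eq_mul_right (Nat.mul_pos hp.pos he) (h.trans ?_)
    ring
  rw [stage_eq hp (not_sq_dvd_orderOf h2) hl hcount (k := 1), mul_one]
  intro x hxp
  rw [show (1 : ℕ) = Fintype.card (Fin 1) from rfl]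
  refine nCl_eq_of_reps (fun _ => 1) (fun _ => ⟨?_, ?_⟩) (fun i j _ => Subsingleton.elim i j) ?_
  · rw [orderOf_one, Nat.dvd_one]; exact hp.ne_one
  · intro q hq
    rw [orderOf_one, Nat.dvd_one]; exact (hl q hq).1.ne_one
  · rintro a ⟨ha, -⟩
    refine ⟨0, ?_⟩
    have h1 : orderOf a ∣ p := by
      conv_rhs => rw [← (hx x hxp).1]
      exact orderOf_dvd_natCard a
    rw [orderOf_eq_one_iff.1 (((Nat.dvd_prime hp).1 h1).resolve_right fun h => ha (h ▸ dvd_rfl))]

/-- the centralisers of conjugate elements -/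
noncomputable def centEquiv (g x : G) :
    ↥(centralizer ({x} : Set G)) ≃* ↥(centralizer ({g * x * g⁻¹} : Set G)) :=
  ((MulAut.conj g).subgroupMap (centralizer ({x} : Set G))).trans (MulEquiv.subgroupCongr (by
    ext a
    erw [mem_map_equiv]
    rw [mem_centralizer_singleton_iff, mem_centralizer_singleton_iff, MulAut.conj_symm_apply]
    constructor
    · intro h
      calc a * (g * x * g⁻¹) = g * (g⁻¹ * a * g * x) * g⁻¹ := by group
        _ = g * (x * (g⁻¹ * a * g)) * g⁻¹ := by rw [h]
        _ = _ := by group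
    · intro h
      calc g⁻¹ * a * g * x = g⁻¹ * (a * (g * x * g⁻¹)) * g := by group
        _ = g⁻¹ * (g * x * g⁻¹ * a) * g := by rw [h]
        _ = _ := by group))

theorem nCl_cent_isConj {x y : G} (h : IsConj x y) (P : ℕ → Prop) :
    nCl {a : ↥(centralizer ({x} : Set G)) | P (orderOf a)} =
      nCl {a : ↥(centralizer ({y} : Set G)) | P (orderOf a)} := by
  obtain ⟨g, rfl⟩ := isConj_iff.1 h
  exact nCl_equiv (centEquiv g x) P

/-- elements of order `p` are conjugate into a subgroup of order divisible by `p` -/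
theorem exists_conj_into {p : ℕ} (hp : p.Prime) (h2 : ¬ p ^ 2 ∣ Nat.card G) {H : Subgroup G}
    (hH : p ∣ Nat.card ↥H) {x : G} (hx : orderOf x = p) :
    ∃ g : G, g * x * g⁻¹ ∈ H := by
  haveI := Fact.mk hp
  obtain ⟨⟨y, hyH⟩, hy⟩ := exists_prime_orderOf_dvd_card' (G := ↥H) p hH
  rw [orderOf_mk] at hy
  have hf : (Nat.card G).factorization p = 1 := by
    apply le_antisymm
    · by_contra h
      exact h2 ((hp.pow_dvd_iff_le_factorization Nat.card_pos.ne').2 (by omega))
    · refine (hp.pow_dvd_iff_le_factorization Nat.card_pos.ne').1 ?_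
      rw [pow_one, ← hx]; exact orderOf_dvd_natCard x
  let P : Sylow p G := Sylow.ofCard (zpowers x) (by rw [Nat.card_zpowers, hx, hf, pow_one])
  let Q : Sylow p G := Sylow.ofCard (zpowers y) (by rw [Nat.card_zpowers, hy, hf, pow_one])
  obtain ⟨g, hg⟩ := MulAction.exists_smul_eq G P Q
  refine ⟨g, zpowers_le.2 hyH ?_⟩
  have h1 : MulAut.conj g • x ∈ (g • P : Sylow p G) :=
    smul_mem_pointwise_smul _ _ _ (show x ∈ (P : Subgroup G) by
      rw [Sylow.coe_ofCard]; exact mem_zpowers x)
  rw [hg] at h1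
  rw [← Sylow.coe_ofCard (zpowers y) (by rw [Nat.card_zpowers, hy, hf, pow_one])]
  exact h1

end CfsgLib.Spor.J4Class
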