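import Cfsg.Agent.Lib.Spor.J4Class.FiveChk
import Cfsg.Agent.Lib.Spor.J4Class.Stage
import Cfsg.Agent.Lib.Spor.LargeJ4.Setup
import Cfsg.Agent.Lib.M12Cent.NonSimple
import Cfsg.Agent.S5572

/-!
The classes of a group of Janko-four type isomorphic to `J4` with order divisible by 5 and by no
prime 3, 7, 11, 23, 29, 31, 37, 43.
-/

set_option autoImplicit false
set_option maxRecDepth 100000
set_option linter.style.haveILetI false

namespace CfsgLib.Spor.J4Class

open Subgroup CfsgLib.Spor.J4Local Five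

namespace Five

theorem packF_congr {f g : ℕ → ℕ} : ∀ {n : ℕ}, (∀ i < n, f i = g i) → packF f n = packF g n
  | 0, _ => rfl
  | n + 1, h => by rw [packF, packF, packF_congr fun i hi => h i (hi.trans n.lt_succ_self), h n n.lt_succ_self]

theorem compC_idC_compC (a b : ℕ) : compC idC (compC a b) = compC a b := by
  refine packF_congr fun i hi => ?_
  have e : dig idC i % 28 = i := congrArg Fin.val (dg_idC ⟨i, hi⟩)
  have h := congrArg Fin.val (dg_compC a b ⟨i, hi⟩)
  simp only [dg] at h
  simp only [e]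
  exact h

theorem compC_idC_idC : compC idC idC = idC := by decide +kernel

theorem Act.sq6 {g : Cfsg.Spor.J4} {c : ℕ} (h : Act g c) : Act (g ^ 64) (Five.sq6 c) := by
  have e : g ^ 64 = (((((g ^ 2) ^ 2) ^ 2) ^ 2) ^ 2) ^ 2 := by simp only [← pow_mul]
  rw [e]
  simp only [pow_two]
  have h1 := h.mul h
  have h2 := h1.mul h1
  have h3 := h2.mul h2
  have h4 := h3.mul h3
  have h5 := h4.mul h4
  exact h5.mul h5

end Five

theorem five_cent {G : Type*} [Group G] [Finite G] (ψ : G ≃* Cfsg.Spor.J4) {u : G}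
    (hu : ψ u = eX) {Q J : Subgroup G} (hQ : Q = zpowers u)
    (h : Cfsg.IsInternalDirectProduct Q J (centralizer ({u} : Set G)))
    (hJ : Nat.card ↥J = 1344) :
    nCl {y : ↥(centralizer ({u} : Set G)) |
      ¬ 5 ∣ orderOf y ∧ Avoid [3, 7, 11, 23, 29, 31, 37, 43] (orderOf y)} = 7 := by
  have hu5 : orderOf u = 5 := by rw [← MulEquiv.orderOf_eq ψ u, hu, orderOf_X]
  rw [nCl_of_directProduct (by norm_num) hu5 hQ (by rw [hJ]; norm_num) h]
  obtain ⟨-, -, hcom, -, hsup⟩ := h
  -- elements of order seven commuting with `u` lie in `J`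
  have mem7 : ∀ e : Cfsg.Spor.J4, orderOf e = 7 → e * eX = eX * e → ψ.symm e ∈ J := by
    intro e he hc
    set g := ψ.symm e
    have hgC : g ∈ centralizer ({u} : Set G) := mem_centralizer_singleton_iff.2 (ψ.injective (by
      rw [map_mul, map_mul, hu, MulEquiv.apply_symm_apply, hc]))
    have hn : Q ≤ normalizer (J : Set G) := fun a ha => mem_normalizer_iff.2 fun b => by
      constructor
      · intro hb
        rwa [hcom a ha b hb, mul_inv_cancel_right]
      · intro hb
        have := hcom a⁻¹ (inv_mem ha) _ hb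
        rw [show a⁻¹ * (a * b * a⁻¹) = b * a⁻¹ by group] at this
        rw [mul_left_injective a⁻¹ this]
        exact hb
    rw [← hsup, ← SetLike.mem_coe, coe_mul_of_left_le_normalizer_right Q J hn] at hgC
    obtain ⟨a, ha, s, hs, has⟩ := hgC
    have ha5 : a ^ 5 = 1 := by
      have := orderOf_dvd_of_mem_zpowers (hQ ▸ ha : a ∈ zpowers u)
      exact orderOf_dvd_iff_pow_eq_one.1 (this.trans (dvd_of_eq hu5))
    have h5 : g ^ 5 = s ^ 5 := by
      rw [← has, (show Commute a s from hcom a ha s hs).mul_pow, ha5, one_mul]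
    have hg7 : g ^ 7 = 1 :=
      orderOf_dvd_iff_pow_eq_one.1 (by rw [MulEquiv.orderOf_eq, he])
    have e15 : g = (g ^ 5) ^ 3 := by
      rw [← pow_mul, show 5 * 3 = 7 * 2 + 1 by norm_num, pow_succ, pow_mul, hg7, one_pow, one_mul]
    rw [e15, h5]
    exact pow_mem (pow_mem hs 5) 3
  have hgen : ∀ n, ∃ g ∈ J, Act (ψ g) (gen n) := by
    intro n
    unfold gen
    split
    · exact ⟨_, mem7 eS orderOf_S comm_SX, by rw [MulEquiv.apply_symm_apply]; exact act_S⟩
    · exact ⟨_, mem7 eH orderOf_H comm_HX, by rw [MulEquiv.apply_symm_apply]; exact act_H⟩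
  have hex : ∀ i, i < 1344 → ∃ g ∈ J, Act (ψ g) (code i) := by
    intro i
    induction i using Nat.strong_induction_on with
    | _ i ih =>
      intro hi
      rcases i with _ | i
      · exact ⟨1, one_mem J, by rw [map_one, code_zero]; exact act_one⟩
      · obtain ⟨hlt, hcode⟩ := tree_step (i := i) (by omega)
        obtain ⟨a, ha, hA⟩ := ih _ hlt (by omega)
        obtain ⟨b, hb, hB⟩ := hgen (par (i + 1) % 2)
        exact ⟨a * b, J.mul_mem ha hb, by rw [map_mul, hcode]; exact hA.mul hB⟩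
  choose el hel hact using fun i : Fin 1344 => hex i i.2
  let el' : Fin 1344 → ↥J := fun i => ⟨el i, hel i⟩
  have hinj : Function.Injective el' := by
    intro i j hij
    have e : el i = el j := congrArg Subtype.val hij
    have := (hact i).unique (e ▸ hact j)
    rw [code_good i.2, code_good j.2] at this
    exact Fin.ext (code_inj i.2 j.2 this)
  have hbij : Function.Bijective el' :=
    (Nat.bijective_iff_injective_and_card el').2 ⟨hinj, by rw [hJ, Nat.card_fin]⟩
  have huniq : ∀ {a b : ↥J} {c : ℕ}, Act (ψ a) c → Act (ψ b) c → a = b := by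
    intro a b c ha hb
    obtain ⟨i, rfl⟩ := hbij.2 a
    obtain ⟨j, rfl⟩ := hbij.2 b
    have := ((hact i).unique ha).trans ((hact j).unique hb).symm
    rw [code_good i.2, code_good j.2] at this
    rw [Fin.ext (code_inj i.2 j.2 this)]
  have hmul : ∀ i j : Fin 1344, Act (ψ ↑(el' i * el' j)) (compC (code i) (code j)) := fun i j => by
    rw [Subgroup.coe_mul, map_mul]; exact (hact i).mul (hact j)
  have hpow : ∀ i : Fin 1344, Act (ψ ↑(el' i ^ 64)) (sq6 (code i)) := fun i => by
    rw [SubgroupClass.coe_pow, map_pow]; exact (hact i).sq6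
  have hone : Act (ψ ((1 : ↥J) : G)) idC := by rw [OneMemClass.coe_one, map_one]; exact act_one
  rw [show (7 : ℕ) = Fintype.card (Fin 7) from rfl]
  let rp : Fin 7 → Fin 1344 := fun r => ⟨rep7 r, (rep_step r.2).1⟩
  refine nCl_eq_of_reps (fun r => el' (rp r)) (fun r => ?_) ?_ ?_
  · have h64 : el' (rp r) ^ 64 = 1 := by
      refine huniq (hpow _) ?_
      show Act _ (sq6 (code (rep7 r)))
      rw [(rep_step r.2).2]
      exact hone
    intro q hq hd
    have := hd.trans (orderOf_dvd_of_pow_eq_one h64)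
    simp only [List.mem_cons, List.not_mem_nil, or_false] at hq
    rcases hq with rfl | rfl | rfl | rfl | rfl | rfl | rfl | rfl <;> norm_num at this
  · have key : ∀ r r' : Fin 7, r < r' → ¬ IsConj (el' (rp r)) (el' (rp r')) := by
      intro r r' hlt hc
      obtain ⟨c, hc⟩ := isConj_iff.1 hc
      obtain ⟨j, rfl⟩ := hbij.2 c
      have e : el' j * el' (rp r) = el' (rp r') * el' j := by rw [← hc]; group
      have h1 := hmul j (rp r)
      have h2 := hmul (rp r') j
      rw [e] at h1
      have := h1.unique h2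
      rw [compC_idC_compC, compC_idC_compC] at this
      exact dist_step hlt r'.2 j.2 this
    intro r r' hc
    rcases lt_trichotomy r r' with hl | he | hl
    · exact absurd hc (key r r' hl)
    · exact he
    · exact absurd hc.symm (key r' r hl)
  · intro a ha
    obtain ⟨i, rfl⟩ := hbij.2 a
    have h64 : el' i ^ 64 = 1 := by
      refine orderOf_dvd_iff_pow_eq_one.1 ?_
      have hd := orderOf_dvd_natCard (el' i)
      rw [hJ, show 1344 = 64 * (3 * 7) by norm_num] at hd
      refine Nat.Coprime.dvd_of_dvd_mul_right (Nat.Coprime.mul_right ?_ ?_) hd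
      · exact ((Nat.Prime.coprime_iff_not_dvd Nat.prime_three).2 (ha 3 (by simp))).symm
      · exact ((Nat.Prime.coprime_iff_not_dvd (by norm_num)).2 (ha 7 (by simp))).symm
    have hsq : sq6 (code i) = idC := by
      have h1 := hpow i
      rw [h64] at h1
      have := h1.unique hone
      rwa [compC_idC_idC, Five.sq6, compC_idC_compC] at this
    obtain ⟨hr, hj, he⟩ := conj_step i.2 hsq
    refine ⟨⟨_, hr⟩, isConj_iff.2 ⟨el' ⟨_, hj⟩, ?_⟩⟩
    have e : el' ⟨_, hj⟩ * el' i = el' (rp ⟨_, hr⟩) * el' ⟨_, hj⟩ := by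
      refine huniq (hmul _ _) ?_
      show Act _ (compC (code (cnj i % 2048)) (code i))
      rw [he]
      exact hmul (rp ⟨_, hr⟩) ⟨_, hj⟩
    rw [e, mul_inv_cancel_right]

theorem five_stage {G : Type*} [Group G] [Finite G] [IsSimpleGroup G]
    (hG : ¬ IsMulCommutative G) {z : G} {P : Subgroup G}
    (hJ : Cfsg.IsOfJankoFourTypeWith z P) (φ : G ≃* Cfsg.Spor.J4) :
    stage G 5 [3, 7, 11, 23, 29, 31, 37, 43] = 7 := by
  haveI : Fact (Nat.Prime 5) := ⟨by norm_num⟩
  have h5H : 5 ∣ Nat.card ↥(centralizer ({z} : Set G)) := by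
    obtain ⟨Md⟩ := CfsgLib.Spor.LargeFi.J4.model_of_type hJ
    rw [Md.card_H]
    norm_num
  have h25 : ¬ 5 ^ 2 ∣ Nat.card G := by rw [natCard_iso φ]; unfold ord4; norm_num
  have local5 : ∀ u : G, orderOf u = 5 → u ∈ centralizer ({z} : Set G) →
      Nat.card ↥(normalizer (zpowers u : Set G)) = 26880 ∧
      ∃ J : Subgroup G, Cfsg.IsInternalDirectProduct (zpowers u) J (centralizer ({u} : Set G)) ∧
        Nat.card ↥J = 1344 ∧ Nat.card ↥(centralizer ({u} : Set G)) = 6720 := by
    intro u hu huz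
    obtain ⟨-, ⟨J, hd, E, hEn, -, hE, ⟨e⟩, -⟩, -, hN⟩ := Cfsg.Agent.S5572.result hG z ⟨P, hJ⟩
      (zpowers u) (by rw [Nat.card_zpowers, hu]) (zpowers_le.2 huz)
    have hC : centralizer ((zpowers u : Subgroup G) : Set G) = centralizer ({u} : Set G) := by
      rw [← centralizer_closure ({u} : Set G), ← zpowers_eq_closure]
    rw [hC] at hd
    haveI := hEn
    have hJc : Nat.card ↥J = 1344 := by
      rw [Subgroup.card_eq_card_quotient_mul_card_subgroup E, hE, Nat.card_congr e.toEquiv,
        Nat.card_eq_fintype_card]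
      have : Fintype.card (Matrix.SpecialLinearGroup (Fin 3) (ZMod 2)) = 168 := by decide +kernel
      rw [this]
    refine ⟨by rw [hN]; norm_num, J, hd, hJc, ?_⟩
    obtain ⟨hQ, hJC, hcom, hinf, hsup⟩ := hd
    have hbij : Function.Bijective fun p : ↥(zpowers u) × ↥J =>
        (⟨p.1.1 * p.2.1, mul_mem (hQ p.1.2) (hJC p.2.2)⟩ : ↥(centralizer ({u} : Set G))) := by
      constructor
      · rintro ⟨⟨a, ha⟩, ⟨b, hb⟩⟩ ⟨⟨c, hc⟩, ⟨d, hd⟩⟩ hp
        have hp' : a * b = c * d := congrArg Subtype.val hp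
        have hm : c⁻¹ * a = d * b⁻¹ := by
          rw [eq_mul_inv_iff_mul_eq, mul_assoc, hp', inv_mul_cancel_left]
        have h1 : c⁻¹ * a ∈ zpowers u ⊓ J :=
          Subgroup.mem_inf.2 ⟨mul_mem (inv_mem hc) ha, hm ▸ mul_mem hd (inv_mem hb)⟩
        rw [hinf, Subgroup.mem_bot, inv_mul_eq_one] at h1
        subst h1
        rw [mul_right_inj] at hp'
        subst hp'
        rfl
      · rintro ⟨g, hg⟩
        rw [← hsup] at hg
        have hn : zpowers u ≤ normalizer (J : Set G) := fun a ha => mem_normalizer_iff.2 fun b => by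
          constructor
          · intro hb
            rwa [hcom a ha b hb, mul_inv_cancel_right]
          · intro hb
            have := hcom a⁻¹ (inv_mem ha) _ hb
            rw [show a⁻¹ * (a * b * a⁻¹) = b * a⁻¹ by group] at this
            rw [mul_left_injective a⁻¹ this]
            exact hb
        rw [← SetLike.mem_coe, coe_mul_of_left_le_normalizer_right _ J hn] at hg
        obtain ⟨a, ha, b, hb, e⟩ := hg
        exact ⟨(⟨a, ha⟩, ⟨b, hb⟩), Subtype.ext e⟩
    rw [← Nat.card_congr (Equiv.ofBijective _ hbij), Nat.card_prod, Nat.card_zpowers, hu, hJc]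
  obtain ⟨⟨u, huz⟩, hu⟩ := exists_prime_orderOf_dvd_card'
    (G := ↥(centralizer ({z} : Set G))) 5 h5H
  rw [orderOf_mk] at hu
  obtain ⟨hn, -, -, -, hc⟩ := local5 u hu huz
  have hcount : nCl {x : G | orderOf x = 5} = 1 := by
    have h := nCl_prime_order (by norm_num) h25 hu hc hn
    omega
  rw [stage_eq (by norm_num) (not_sq_dvd_orderOf h25) (by decide +kernel) hcount (k := 7)]
  intro x hx
  have hX : orderOf (φ.symm eX) = 5 := by rw [MulEquiv.orderOf_eq, orderOf_X]
  obtain ⟨g, hg⟩ := exists_conj_into (by norm_num) h25 h5H hX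
  have hconj : IsConj x (g * φ.symm eX * g⁻¹) := by
    obtain ⟨f, hf1, hf2, hf3⟩ := exists_reps {x : G | orderOf x = 5}
    obtain ⟨i, hi⟩ := hf3 x hx
    obtain ⟨j, hj⟩ := hf3 (φ.symm eX) hX
    have : i = j := Fin.ext (by have := i.2; have := j.2; omega)
    subst this
    exact (hi.trans hj.symm).trans (isConj_iff.2 ⟨g, rfl⟩)
  rw [nCl_cent_isConj hconj (fun n => ¬ 5 ∣ n ∧ Avoid [3, 7, 11, 23, 29, 31, 37, 43] n)]
  obtain ⟨-, J, hd, hJc, -⟩ := local5 _ (by rw [← orderOf_isConj hconj, hx]) hg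
  exact five_cent ((MulAut.conj g⁻¹).trans φ)
    (by simp [mul_assoc]) rfl hd hJc

end CfsgLib.Spor.J4Class
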