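import Cfsg.Agent.Lib.Spor.J4Local.Node
import Cfsg.Agent.Lib.Spor.J4Class.FiveData

/-!
An element of order five of `J4` and two elements of order seven commuting with it, with their
action on 28 vectors: the 1344 permutations they generate and the seven classes of those of
2-power order, checked in the kernel.
-/

set_option autoImplicit false
set_option maxRecDepth 100000

namespace CfsgLib.Spor.J4Class.Five

open Matrix CfsgLib.Spor.J4Rep CfsgLib.Spor.J4Local CfsgLib.Spor.J4Class.FiveData

/-- the element of order five -/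
noncomputable def eX : Cfsg.Spor.J4 := wval wA ^ 7 * wval wC

/-- an auxiliary element -/
noncomputable def eL : Cfsg.Spor.J4 := eX ^ 4 * (wval wM ^ 6 * eX * wval wM)

/-- the first element of order seven -/
noncomputable def eS : Cfsg.Spor.J4 := wval wS

/-- the second element of order seven -/
noncomputable def eH : Cfsg.Spor.J4 := wval wM * (eX ^ 4 * eL * (eX * (eX * eX)) * eL * eX ^ 3)

theorem chk_A : Nat.beq (evalB wA) mA = true := by decide +kernel
theorem chk_C : Nat.beq (evalB wC) mC = true := by decide +kernel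
theorem chk_S : Nat.beq (evalB wS) mS = true := by decide +kernel
theorem chk_G : Nat.beq (evalB wM) mG = true := by decide +kernel
theorem chk_X : Nat.beq (mulB 112 (powB mA 7) mC) mX = true := by decide +kernel
theorem chk_L : Nat.beq (mulB 112 (powB mX 4) (mulB 112 (mulB 112 (powB mG 6) mX) mG)) mL = true := by
  decide +kernel
theorem chk_H : Nat.beq (mulB 112 mG (mulB 112 (mulB 112 (mulB 112 (mulB 112 (powB mX 4) mL)
    (mulB 112 mX (mulB 112 mX mX))) mL) (powB mX 3))) mH = true := by
  decide +kernel

theorem rp_X : Rp eX mX := ((Rp.word chk_A).pow 7).mul (Rp.word chk_C) chk_X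
theorem rp_L : Rp eL mL :=
  (rp_X.pow 4).mul ((((Rp.word chk_G).pow 6).mul' rp_X).mul' (Rp.word chk_G)) chk_L
theorem rp_S : Rp eS mS := Rp.word chk_S
theorem rp_H : Rp eH mH :=
  (Rp.word chk_G).mul (((((rp_X.pow 4).mul' rp_L).mul' (rp_X.mul' (rp_X.mul' rp_X))).mul'
    rp_L).mul' (rp_X.pow 3)) chk_H

theorem pow_X : Nat.beq (powB mX 5) (oneB 112) = true := by decide +kernel
theorem ne_X : neqB 112 mX (oneB 112) = true := by decide +kernel
theorem pow_S : Nat.beq (powB mS 7) (oneB 112) = true := by decide +kernel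
theorem ne_S : neqB 112 mS (oneB 112) = true := by decide +kernel
theorem pow_H : Nat.beq (powB mH 7) (oneB 112) = true := by decide +kernel
theorem ne_H : neqB 112 mH (oneB 112) = true := by decide +kernel
theorem com_SX : Nat.beq (mulB 112 mS mX) (mulB 112 mX mS) = true := by decide +kernel
theorem com_HX : Nat.beq (mulB 112 mH mX) (mulB 112 mX mH) = true := by decide +kernel

theorem orderOf_X : orderOf eX = 5 :=
  haveI : Fact (Nat.Prime 5) := ⟨by norm_num⟩
  rp_X.orderOf pow_X ne_X

theorem orderOf_S : orderOf eS = 7 :=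
  haveI : Fact (Nat.Prime 7) := ⟨by norm_num⟩
  rp_S.orderOf pow_S ne_S

theorem orderOf_H : orderOf eH = 7 :=
  haveI : Fact (Nat.Prime 7) := ⟨by norm_num⟩
  rp_H.orderOf pow_H ne_H

theorem comm_SX : eS * eX = eX * eS := rp_S.comm rp_X com_SX
theorem comm_HX : eH * eX = eX * eH := rp_H.comm rp_X com_HX

/-- a digit of a packed permutation -/
def dig (c i : ℕ) : ℕ := (c >>> (5 * i)) % 32

/-- packing -/
def packF (f : ℕ → ℕ) : ℕ → ℕ
  | 0 => 0
  | n + 1 => packF f n + f n * 2 ^ (5 * n)

/-- the packed identity -/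
def idC : ℕ := packF id 28

/-- composition from the left -/
def compC (a b : ℕ) : ℕ := packF (fun i => dig b (dig a i % 28) % 28) 28

/-- a digit as a point -/
def dg (c : ℕ) (i : Fin 28) : Fin 28 := ⟨dig c i % 28, Nat.mod_lt _ (by norm_num)⟩

theorem packF_lt {f : ℕ → ℕ} (hf : ∀ i, f i < 32) : ∀ n, packF f n < 2 ^ (5 * n)
  | 0 => by simp [packF]
  | n + 1 => by
    have := packF_lt hf n
    have h1 : f n * 2 ^ (5 * n) ≤ 31 * 2 ^ (5 * n) := Nat.mul_le_mul_right _ (by linarith [hf n])
    rw [packF, show 5 * (n + 1) = 5 * n + 5 by ring, pow_add]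
    omega

theorem dig_packF {f : ℕ → ℕ} (hf : ∀ i, f i < 32) : ∀ {n i : ℕ}, i < n → dig (packF f n) i = f i
  | 0, _, h => absurd h (Nat.not_lt_zero _)
  | n + 1, i, h => by
    rw [dig, Nat.shiftRight_eq_div_pow, packF]
    rcases Nat.lt_succ_iff_lt_or_eq.1 h with h | rfl
    · obtain ⟨k, rfl⟩ : ∃ k, n = i + 1 + k := ⟨n - (i + 1), by omega⟩
      rw [show f (i + 1 + k) * 2 ^ (5 * (i + 1 + k)) =
          2 ^ (5 * i) * (32 * (f (i + 1 + k) * 2 ^ (5 * k))) by ring,
        Nat.add_mul_div_left _ _ (Nat.two_pow_pos _), Nat.add_mul_mod_self_left]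
      have := dig_packF hf (show i < i + 1 + k by omega)
      rwa [dig, Nat.shiftRight_eq_div_pow] at this
    · rw [Nat.add_mul_div_right _ _ (Nat.two_pow_pos _), Nat.div_eq_of_lt (packF_lt hf _),
        Nat.zero_add, Nat.mod_eq_of_lt (hf _)]

theorem dg_compC (a b : ℕ) (i : Fin 28) : dg (compC a b) i = dg b (dg a i) := by
  apply Fin.ext
  show dig (compC a b) i % 28 = dig b (dig a i % 28) % 28
  rw [compC, dig_packF (fun j => lt_trans (Nat.mod_lt _ (by norm_num)) (by norm_num)) i.2,
    Nat.mod_mod]

theorem dg_idC : ∀ i : Fin 28, dg idC i = i := by decide +kernel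

theorem compC_congr {c c' : ℕ} (h : ∀ i, dg c i = dg c' i) : compC idC c = compC idC c' := by
  have key : ∀ n ≤ 28, packF (fun i => dig c (dig idC i % 28) % 28) n =
      packF (fun i => dig c' (dig idC i % 28) % 28) n := by
    intro n hn
    induction n with
    | zero => rfl
    | succ n ih =>
      rw [packF, packF, ih (by omega)]
      congr 2
      exact congrArg Fin.val (h ⟨dig idC n % 28, Nat.mod_lt _ (by norm_num)⟩)
  exact key 28 le_rfl

/-- a row of a packed matrix -/
def rowB (M i : ℕ) : ℕ := (M >>> (112 * i)) % 2 ^ 112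

theorem row_eq_iff (M N : ℕ) (i k : Fin 112) :
    toM 112 M i = toM 112 N k ↔ rowB M i = rowB N k := by
  constructor
  · intro h
    refine Nat.eq_of_testBit_eq fun j => ?_
    simp only [rowB, Nat.testBit_mod_two_pow, Nat.testBit_shiftRight]
    by_cases hj : j < 112
    · have h' := congrFun h ⟨j, hj⟩
      simp only [toM] at h'
      rw [decide_eq_true hj, Bool.true_and, Bool.true_and]
      cases ha : M.testBit (112 * i + j) <;> cases hb : N.testBit (112 * k + j) <;>
        simp_all [bz]
    · simp [hj]
  · intro h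
    funext j
    have h' := congrArg (fun n => n.testBit (j : ℕ)) h
    simp only [rowB, Nat.testBit_mod_two_pow, Nat.testBit_shiftRight, j.2, decide_true,
      Bool.true_and] at h'
    simp only [toM, h']

/-- the 28 vectors -/
noncomputable def pv (i : Fin 28) : Fin 112 → ZMod 2 := toM 112 mP (Fin.castLE (by norm_num) i)

theorem rows_dist : ∀ i j : Fin 28, rowB mP i = rowB mP j → i = j := by decide +kernel

theorem pv_inj : Function.Injective pv := fun i j h =>
  rows_dist i j ((row_eq_iff _ _ _ _).1 h)

/-- the element permutes the vectors as the code says -/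
def Act (g : Cfsg.Spor.J4) (c : ℕ) : Prop :=
  ∀ i, pv i ᵥ* ((J4Rep.rep g : GL (Fin 112) (ZMod 2)) : Matrix (Fin 112) (Fin 112) (ZMod 2)) =
    pv (dg c i)

theorem act_one : Act 1 idC := fun i => by
  rw [map_one, Units.val_one, Matrix.vecMul_one, dg_idC]

theorem Act.mul {g g' : Cfsg.Spor.J4} {a b : ℕ} (h : Act g a) (h' : Act g' b) :
    Act (g * g') (compC a b) := fun i => by
  rw [map_mul, Units.val_mul, ← Matrix.vecMul_vecMul, h, h', dg_compC]

theorem Act.unique {g : Cfsg.Spor.J4} {c c' : ℕ} (h : Act g c) (h' : Act g c') :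
    compC idC c = compC idC c' :=
  compC_congr fun i => pv_inj ((h i).symm.trans (h' i))

theorem act_of_rows {g : Cfsg.Spor.J4} {M c : ℕ} (hg : Rp g M)
    (h : ∀ i : Fin 28, rowB (mulB 112 mP M) i = rowB mP (dg c i)) : Act g c := fun i => by
  have := (row_eq_iff (mulB 112 mP M) mP (Fin.castLE (by norm_num) i)
    (Fin.castLE (by norm_num) (dg c i))).2 (h i)
  rw [toM_mulB, ← hg, Matrix.mul_apply_eq_vecMul] at this
  exact this

theorem rows_S : ∀ i : Fin 28, rowB (mulB 112 mP mS) i = rowB mP (dg cS i) := by decide +kernel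
theorem rows_H : ∀ i : Fin 28, rowB (mulB 112 mP mH) i = rowB mP (dg cH i) := by decide +kernel

theorem act_S : Act eS cS := act_of_rows rp_S rows_S
theorem act_H : Act eH cH := act_of_rows rp_H rows_H

/-- a listed permutation -/
def code (i : ℕ) : ℕ := (codeT >>> (140 * i)) % 2 ^ 140

/-- the parent with the letter -/
def par (i : ℕ) : ℕ := (parT >>> (12 * i)) % 2 ^ 12

/-- a generator -/
def gen (n : ℕ) : ℕ := if n = 0 then cS else cH

/-- the sorted order -/
def srt (i : ℕ) : ℕ := (srtT >>> (11 * i)) % 2 ^ 11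

/-- the position in the sorted order -/
def pos (i : ℕ) : ℕ := (posT >>> (11 * i)) % 2 ^ 11

/-- the class and the conjugating element -/
def cnj (i : ℕ) : ℕ := (conjT >>> (14 * i)) % 2 ^ 14

/-- a representative -/
def rep7 (r : ℕ) : ℕ := repL.getD r 0

/-- six squarings -/
def sq6 (c : ℕ) : ℕ :=
  let d := compC c c
  let e := compC d d
  let f := compC e e
  let g := compC f f
  let h := compC g g
  compC h h

theorem code_zero : code 0 = idC := by decide +kernel

theorem tree_ok : ((List.range 1343).all fun i =>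
    decide (par (i + 1) / 2 < i + 1) &&
      Nat.beq (code (i + 1)) (compC (code (par (i + 1) / 2)) (gen (par (i + 1) % 2)))) = true := by
  decide +kernel

theorem good_ok : ((List.range 1344).all fun i => Nat.beq (compC idC (code i)) (code i)) = true := by
  decide +kernel

theorem sort_ok : ((List.range 1343).all fun i => Nat.blt (code (srt i)) (code (srt (i + 1)))) = true := by
  decide +kernel

theorem pos_ok : ((List.range 1344).all fun i =>
    Nat.blt (pos i) 1344 && Nat.beq (srt (pos i)) i) = true := by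
  decide +kernel

theorem conj_ok : ((List.range 1344).all fun i =>
    !(Nat.beq (sq6 (code i)) idC) ||
      (Nat.blt (cnj i / 2048) 7 && Nat.blt (cnj i % 2048) 1344 &&
        Nat.beq (compC (code (cnj i % 2048)) (code i))
          (compC (code (rep7 (cnj i / 2048))) (code (cnj i % 2048))))) = true := by
  decide +kernel

theorem rep_ok : ((List.range 7).all fun r =>
    Nat.blt (rep7 r) 1344 && Nat.beq (sq6 (code (rep7 r))) idC) = true := by
  decide +kernel

/-- the two composites differ at some digit -/
def differs (j r r' : ℕ) : Bool :=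
  (List.range 28).any fun i =>
    !(Nat.beq (dig (code (rep7 r)) (dig (code j) i % 28) % 28)
      (dig (code j) (dig (code (rep7 r')) i % 28) % 28))

theorem dist_ok : ((List.range 7).all fun r => (List.range 7).all fun r' =>
    decide (r' ≤ r) || (List.range 1344).all fun j => differs j r r') = true := by
  decide +kernel

theorem code_good {i : ℕ} (hi : i < 1344) : compC idC (code i) = code i :=
  Nat.eq_of_beq_eq_true (List.all_eq_true.1 good_ok i (List.mem_range.2 hi))

theorem code_inj {i j : ℕ} (hi : i < 1344) (hj : j < 1344) (h : code i = code j) : i = j := by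
  have hmono : ∀ a b, a < b → b < 1344 → code (srt a) < code (srt b) := by
    intro a b hab hb
    induction b with
    | zero => omega
    | succ b ih =>
      have hstep : code (srt b) < code (srt (b + 1)) := by
        have := List.all_eq_true.1 sort_ok b (List.mem_range.2 (by omega))
        exact Nat.blt_eq.mp this
      rcases Nat.lt_succ_iff_lt_or_eq.1 hab with h' | rfl
      · exact lt_trans (ih h' (by omega)) hstep
      · exact hstep
  have hp : ∀ k, k < 1344 → pos k < 1344 ∧ srt (pos k) = k := fun k hk => by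
    have := List.all_eq_true.1 pos_ok k (List.mem_range.2 hk)
    rw [Bool.and_eq_true] at this
    exact ⟨Nat.blt_eq.mp this.1, Nat.eq_of_beq_eq_true this.2⟩
  rcases lt_trichotomy (pos i) (pos j) with hl | he | hl
  · have := hmono _ _ hl (hp j hj).1
    rw [(hp i hi).2, (hp j hj).2, h] at this
    exact absurd this (lt_irrefl _)
  · rw [← (hp i hi).2, he, (hp j hj).2]
  · have := hmono _ _ hl (hp i hi).1
    rw [(hp i hi).2, (hp j hj).2, h] at this
    exact absurd this (lt_irrefl _)

theorem tree_step {i : ℕ} (hi : i < 1343) : par (i + 1) / 2 < i + 1 ∧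
    code (i + 1) = compC (code (par (i + 1) / 2)) (gen (par (i + 1) % 2)) := by
  have := List.all_eq_true.1 tree_ok i (List.mem_range.2 hi)
  rw [Bool.and_eq_true] at this
  exact ⟨of_decide_eq_true this.1, Nat.eq_of_beq_eq_true this.2⟩

theorem conj_step {i : ℕ} (hi : i < 1344) (h : sq6 (code i) = idC) :
    cnj i / 2048 < 7 ∧ cnj i % 2048 < 1344 ∧ compC (code (cnj i % 2048)) (code i) =
      compC (code (rep7 (cnj i / 2048))) (code (cnj i % 2048)) := by
  have := List.all_eq_true.1 conj_ok i (List.mem_range.2 hi)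
  rw [h, Nat.beq_refl, Bool.not_true, Bool.false_or, Bool.and_eq_true, Bool.and_eq_true] at this
  exact ⟨Nat.blt_eq.mp this.1.1, Nat.blt_eq.mp this.1.2, Nat.eq_of_beq_eq_true this.2⟩

theorem rep_step {r : ℕ} (hr : r < 7) : rep7 r < 1344 ∧ sq6 (code (rep7 r)) = idC := by
  have := List.all_eq_true.1 rep_ok r (List.mem_range.2 hr)
  rw [Bool.and_eq_true] at this
  exact ⟨Nat.blt_eq.mp this.1, Nat.eq_of_beq_eq_true this.2⟩

theorem dist_step {r r' j : ℕ} (hr : r < r') (hr' : r' < 7) (hj : j < 1344) :
    compC (code j) (code (rep7 r)) ≠ compC (code (rep7 r')) (code j) := by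
  intro h
  have := List.all_eq_true.1 (List.all_eq_true.1 dist_ok r (List.mem_range.2 (by omega))) r'
    (List.mem_range.2 hr')
  rw [decide_eq_false (by omega), Bool.false_or] at this
  obtain ⟨i, hi, hne⟩ := List.any_eq_true.1 (List.all_eq_true.1 this j (List.mem_range.2 hj))
  have hd := congrArg (fun c => (dg c ⟨i, List.mem_range.1 hi⟩ : ℕ)) h
  simp only [dg_compC] at hd
  simp only [dg] at hd
  rw [hd, Nat.beq_refl] at hne
  simp at hne

end CfsgLib.Spor.J4Class.Five
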