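import Cfsg.Agent.Lib.Spor.J4Local.Node

/-!
Rank invariants of tuples of elements of `J4`: the rank of a polynomial in the matrices of a tuple
is unchanged by simultaneous conjugation, and is certified by one factorisation through the
diagonal idempotent and one reduction to it.

A polynomial is a list of monomials and a monomial a list of indices into the tuple (the empty
monomial is the identity); coefficients are in the field of two elements.
-/

set_option autoImplicit false
set_option maxRecDepth 100000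

namespace CfsgLib.Spor.J4Class

open CfsgLib.Spor.J4Rep CfsgLib.Spor.J4Local Matrix

/-- a monomial in packed matrices -/
def monB (As : List ℕ) : List ℕ → ℕ
  | [] => oneB 112
  | i :: w => mulB 112 (As.getD i (oneB 112)) (monB As w)

/-- a polynomial in packed matrices -/
def polyB (As : List ℕ) : List (List ℕ) → ℕ
  | [] => 0
  | w :: p => monB As w ^^^ polyB As p

/-- the elements of the tuple have the given packed matrices -/
def RpL (es : List Cfsg.Spor.J4) (As : List ℕ) : Prop :=
  ∀ i : ℕ, Rp (es.getD i 1) (As.getD i (oneB 112))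

theorem RpL.nil : RpL [] [] := fun i => by simpa using Rp.one

theorem RpL.cons {e : Cfsg.Spor.J4} {A : ℕ} {es : List Cfsg.Spor.J4} {As : List ℕ} (he : Rp e A)
    (h : RpL es As) : RpL (e :: es) (A :: As) := fun i => by
  cases i with
  | zero => simpa using he
  | succ i => simpa using h i

theorem RpL.single {e : Cfsg.Spor.J4} {A : ℕ} (he : Rp e A) : RpL [e] [A] := RpL.nil.cons he

theorem RpL.triple {e f g : Cfsg.Spor.J4} {A B C : ℕ} (he : Rp e A) (hf : Rp f B) (hg : Rp g C) :
    RpL [e, f, g] [A, B, C] := ((RpL.nil.cons hg).cons hf).cons he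

theorem monB_conj {es fs : List Cfsg.Spor.J4} {As Bs : List ℕ} (he : RpL es As) (hf : RpL fs Bs)
    {g : Cfsg.Spor.J4} (hg : ∀ i : ℕ, g * es.getD i 1 * g⁻¹ = fs.getD i 1) (w : List ℕ) :
    toM 112 (monB Bs w) = (J4Rep.rep g : GL (Fin 112) (ZMod 2)).val * toM 112 (monB As w) *
      (J4Rep.rep g⁻¹ : GL (Fin 112) (ZMod 2)).val := by
  induction w with
  | nil =>
    rw [monB, toM_oneB, monB, toM_oneB, mul_one, ← Units.val_mul, ← map_mul, mul_inv_cancel,
      map_one, Units.val_one]
  | cons i w ih =>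
    rw [monB, toM_mulB, ← hf i, ih, ← hg i, monB, toM_mulB, ← he i, map_mul, map_mul,
      Units.val_mul, Units.val_mul]
    have e : (J4Rep.rep g⁻¹ : GL (Fin 112) (ZMod 2)).val * (J4Rep.rep g).val = 1 := by
      rw [← Units.val_mul, ← map_mul, inv_mul_cancel, map_one, Units.val_one]
    simp only [← mul_assoc]
    rw [mul_assoc _ (J4Rep.rep g⁻¹).val (J4Rep.rep g).val, e, mul_one]

theorem polyB_conj {es fs : List Cfsg.Spor.J4} {As Bs : List ℕ} (he : RpL es As) (hf : RpL fs Bs)
    {g : Cfsg.Spor.J4} (hg : ∀ i : ℕ, g * es.getD i 1 * g⁻¹ = fs.getD i 1) (p : List (List ℕ)) :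
    toM 112 (polyB Bs p) = (J4Rep.rep g : GL (Fin 112) (ZMod 2)).val * toM 112 (polyB As p) *
      (J4Rep.rep g⁻¹ : GL (Fin 112) (ZMod 2)).val := by
  induction p with
  | nil =>
    have h0 : toM 112 0 = 0 := by ext i j; simp [toM, bz]
    simp [polyB, h0]
  | cons w p ih =>
    rw [polyB, toM_xor, monB_conj he hf hg w, ih, polyB, toM_xor, mul_add, add_mul]

/-- Simultaneous conjugation keeps the rank of a polynomial. -/
theorem rank_polyB_conj {es fs : List Cfsg.Spor.J4} {As Bs : List ℕ} (he : RpL es As)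
    (hf : RpL fs Bs) {g : Cfsg.Spor.J4} (hg : ∀ i : ℕ, g * es.getD i 1 * g⁻¹ = fs.getD i 1)
    (p : List (List ℕ)) : (toM 112 (polyB Bs p)).rank = (toM 112 (polyB As p)).rank := by
  rw [polyB_conj he hf hg p, Matrix.rank_mul_eq_left_of_isUnit_det _ _
      ((Matrix.isUnit_iff_isUnit_det _).1 (J4Rep.rep g⁻¹).isUnit),
    Matrix.rank_mul_eq_right_of_isUnit_det _ _
      ((Matrix.isUnit_iff_isUnit_det _).1 (J4Rep.rep g).isUnit)]

/-- the two checks that give the rank: a factorisation and a reduction -/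
def certB (A r P R L M : ℕ) : Bool :=
  Nat.ble r 112 && Nat.beq A (mulB 112 (mulB 112 P (diagB r)) R) &&
    Nat.beq (mulB 112 (mulB 112 L A) M) (diagB r)

theorem rank_of_cert {A r P R L M : ℕ} (h : certB A r P R L M = true) :
    (toM 112 A).rank = r := by
  simp only [certB, Bool.and_eq_true] at h
  obtain ⟨⟨hr, h1⟩, h2⟩ := h
  have hr' : r ≤ 112 := Nat.le_of_ble_eq_true hr
  refine le_antisymm ?_ ?_
  · rw [Nat.eq_of_beq_eq_true h1, toM_mulB, toM_mulB]
    exact (Matrix.rank_mul_le_left _ _).trans ((Matrix.rank_mul_le_right _ _).trans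
      (rank_diag hr').le)
  · calc r = (toM 112 (diagB r)).rank := (rank_diag hr').symm
      _ = (toM 112 L * toM 112 A * toM 112 M).rank := by
        rw [← Nat.eq_of_beq_eq_true h2, toM_mulB, toM_mulB]
      _ ≤ (toM 112 A).rank :=
        (Matrix.rank_mul_le_left _ _).trans (Matrix.rank_mul_le_right _ _)

/-- the ranks of the polynomials at the tuple -/
def Sig (As : List ℕ) : List (List (List ℕ)) → List ℕ → Prop
  | [], [] => True
  | p :: ps, r :: rs => (toM 112 (polyB As p)).rank = r ∧ Sig As ps rs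
  | _, _ => False

theorem Sig.nil {As : List ℕ} : Sig As [] [] := trivial

theorem Sig.cons {As : List ℕ} {p : List (List ℕ)} {ps : List (List (List ℕ))} {r : ℕ}
    {rs : List ℕ} {P R L M : ℕ} (h : certB (polyB As p) r P R L M = true) (hs : Sig As ps rs) :
    Sig As (p :: ps) (r :: rs) := ⟨rank_of_cert h, hs⟩

theorem Sig.eq_of_conj {es fs : List Cfsg.Spor.J4} {As Bs : List ℕ} (he : RpL es As)
    (hf : RpL fs Bs) {g : Cfsg.Spor.J4} (hg : ∀ i : ℕ, g * es.getD i 1 * g⁻¹ = fs.getD i 1) :
    ∀ {ps : List (List (List ℕ))} {rs rs' : List ℕ}, Sig As ps rs → Sig Bs ps rs' → rs = rs'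
  | [], [], [], _, _ => rfl
  | [], [], _ :: _, _, h => h.elim
  | [], _ :: _, _, h, _ => h.elim
  | _ :: _, [], _, h, _ => h.elim
  | _ :: _, _ :: _, [], _, h => h.elim
  | p :: ps, r :: rs, r' :: rs', ⟨h1, h2⟩, ⟨h1', h2'⟩ => by
    rw [Sig.eq_of_conj he hf hg h2 h2', ← h1, ← h1', rank_polyB_conj he hf hg p]

/-- Elements with different signatures are not conjugate. -/
theorem not_isConj_of_sig {a b : Cfsg.Spor.J4} {A B : ℕ} (ha : Rp a A) (hb : Rp b B)
    {ps : List (List (List ℕ))} {rs rs' : List ℕ} (h : Sig [A] ps rs) (h' : Sig [B] ps rs')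
    (hne : rs ≠ rs') : ¬ IsConj a b := by
  intro hc
  obtain ⟨g, hg⟩ := isConj_iff.1 hc
  refine hne (Sig.eq_of_conj (RpL.single ha) (RpL.single hb) (g := g) (fun i => ?_) h h')
  rcases i with - | i <;> simp [hg]

/-- Two elements with different signatures relative to a fixed pair are not conjugate by an
element commuting with the pair. -/
theorem not_conj_of_sig_triple {x w a b : Cfsg.Spor.J4} {X W A B : ℕ} (hx : Rp x X) (hw : Rp w W)
    (ha : Rp a A) (hb : Rp b B) {ps : List (List (List ℕ))} {rs rs' : List ℕ}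
    (h : Sig [X, W, A] ps rs) (h' : Sig [X, W, B] ps rs') (hne : rs ≠ rs') {g : Cfsg.Spor.J4}
    (hgx : g * x = x * g) (hgw : g * w = w * g) : g * a * g⁻¹ ≠ b := by
  intro hga
  refine hne (Sig.eq_of_conj (RpL.triple hx hw ha) (RpL.triple hx hw hb) (g := g) (fun i => ?_)
    h h')
  rcases i with - | - | - | i <;> simp [hgx, hgw, hga]

/-- A pairwise check for a family of signatures. -/
theorem pairwise_not_isConj {n : ℕ} {f : Fin n → Cfsg.Spor.J4} {A : Fin n → ℕ}
    {ps : List (List (List ℕ))} {rs : Fin n → List ℕ} (hf : ∀ i, Rp (f i) (A i))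
    (hs : ∀ i, Sig [A i] ps (rs i)) (hinj : Function.Injective rs) (i j : Fin n)
    (h : IsConj (f i) (f j)) : i = j := by
  by_contra hij
  exact not_isConj_of_sig (hf i) (hf j) (hs i) (hs j) (fun e => hij (hinj e)) h

end CfsgLib.Spor.J4Class
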