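import Cfsg.Agent.Lib.Spor.J4Class.Stage
import Cfsg.Agent.Lib.Spor.J4Local.Final
import Cfsg.Agent.Lib.Spor.JankoFourIso.Main
import Cfsg.Agent.S5563
import Cfsg.Agent.S5564
import Cfsg.Agent.S5572
import Cfsg.Agent.S5573

/-!
The classes of a group of Janko-four type with order divisible by a prime at least 23.
-/

set_option autoImplicit false
set_option maxRecDepth 100000

namespace CfsgLib.Spor.J4Class

open Subgroup CfsgLib.Spor.J4Local

theorem exists_iso {G : Type*} [Group G] [Finite G] [IsSimpleGroup G]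
    (hG : ¬ IsMulCommutative G) {z : G} (hJ : Cfsg.IsOfJankoFourTypeAt z) :
    Nonempty (G ≃* Cfsg.Spor.J4) := CfsgLib.Spor.JankoFourIso.isoJ4 hG hJ

theorem large_at {G : Type*} [Group G] [Finite G] [IsSimpleGroup G]
    (hG : ¬ IsMulCommutative G) {z : G} {P : Subgroup G}
    (hJ : Cfsg.IsOfJankoFourTypeWith z P) (φ : G ≃* Cfsg.Spor.J4) :
    LargeAt G 23 22 ∧ LargeAt G 29 28 ∧ LargeAt G 31 10 ∧ LargeAt G 37 12 ∧ LargeAt G 43 14 :=
  large_primes hG hJ φ (Cfsg.Agent.S5564.result hG ⟨z, P, hJ⟩)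
    (Cfsg.Agent.S5563.result hG z P hJ).2.2.2.2
    (fun Q hQ hQz =>
      ⟨(Cfsg.Agent.S5572.result hG z ⟨P, hJ⟩ Q hQ hQz).1,
        (Cfsg.Agent.S5572.result hG z ⟨P, hJ⟩ Q hQ hQz).2.2.2⟩)
    (fun S hS hSz =>
      ⟨(Cfsg.Agent.S5573.result hG z ⟨P, hJ⟩ S hS hSz).1,
        (Cfsg.Agent.S5573.result hG z ⟨P, hJ⟩ S hS hSz).2.2.2⟩)

theorem large_stages {G : Type*} [Group G] [Finite G] (hcard : Nat.card G = ord4)
    (h : LargeAt G 23 22 ∧ LargeAt G 29 28 ∧ LargeAt G 31 10 ∧ LargeAt G 37 12 ∧ LargeAt G 43 14) :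
    stage G 43 [] = 3 ∧ stage G 37 [43] = 3 ∧ stage G 31 [37, 43] = 3 ∧
      stage G 29 [31, 37, 43] = 1 ∧ stage G 23 [29, 31, 37, 43] = 1 := by
  obtain ⟨h23, h29, h31, h37, h43⟩ := h
  have key : ∀ (p e c : ℕ) (l : List ℕ), p ∈ bigs → 0 < e → c * e = p - 1 →
      (∀ q ∈ l, q.Prime ∧ q ≠ p) → LargeAt G p e → stage G p l = c := by
    intro p e c l hp he hpe hl hL
    obtain ⟨h1, h2⟩ := ord4_exact hp
    exact stage_self_centralizing (prime_of_mem_bigs hp) (by rwa [hcard]) (by rwa [hcard]) he hpe hl hL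
  exact ⟨key 43 14 3 [] (by decide) (by norm_num) (by norm_num) (by decide +kernel) h43,
    key 37 12 3 [43] (by decide) (by norm_num) (by norm_num) (by decide +kernel) h37,
    key 31 10 3 [37, 43] (by decide) (by norm_num) (by norm_num) (by decide +kernel) h31,
    key 29 28 1 [31, 37, 43] (by decide) (by norm_num) (by norm_num) (by decide +kernel) h29,
    key 23 22 1 [29, 31, 37, 43] (by decide) (by norm_num) (by norm_num) (by decide +kernel) h23⟩

/-- the assembly of the stages -/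
theorem card_classes {G : Type*} [Group G] [Finite G] (hcard : Nat.card G = ord4)
    (h : LargeAt G 23 22 ∧ LargeAt G 29 28 ∧ LargeAt G 31 10 ∧ LargeAt G 37 12 ∧ LargeAt G 43 14)
    (h11 : stage G 11 [23, 29, 31, 37, 43] = 9) (h7 : stage G 7 [11, 23, 29, 31, 37, 43] = 14)
    (h3 : stage G 3 [7, 11, 23, 29, 31, 37, 43] = 11)
    (h5 : stage G 5 [3, 7, 11, 23, 29, 31, 37, 43] = 7)
    (h2 : nCl {g : G | Avoid [5, 3, 7, 11, 23, 29, 31, 37, 43] (orderOf g)} = 10) :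
    Nat.card (ConjClasses G) = 62 := by
  obtain ⟨s43, s37, s31, s29, s23⟩ := large_stages hcard h
  rw [← nCl_avoid_nil, nCl_avoid_step 43, s43, nCl_avoid_step 37, s37, nCl_avoid_step 31, s31,
    nCl_avoid_step 29, s29, nCl_avoid_step 23, s23, nCl_avoid_step 11, h11, nCl_avoid_step 7, h7,
    nCl_avoid_step 3, h3, nCl_avoid_step 5, h5, h2]

/-- elements avoiding the odd primes are those of 2-power order -/
theorem avoid_iff {G : Type*} [Group G] [Finite G] (hcard : Nat.card G = ord4) (g : G) :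
    Avoid [5, 3, 7, 11, 23, 29, 31, 37, 43] (orderOf g) ↔ ∃ k : ℕ, g ^ 2 ^ k = 1 := by
  constructor
  · intro h
    refine ⟨21, orderOf_dvd_iff_pow_eq_one.1 ?_⟩
    have hd : orderOf g ∣ 2 ^ 21 * (3 ^ 3 * 5 * 7 * 11 ^ 3 * 23 * 29 * 31 * 37 * 43) := by
      rw [show 2 ^ 21 * (3 ^ 3 * 5 * 7 * 11 ^ 3 * 23 * 29 * 31 * 37 * 43) = ord4 by
        rw [ord4_eq]; ring, ← hcard]
      exact orderOf_dvd_natCard g
    refine Nat.Coprime.dvd_of_dvd_mul_right ?_ hd
    have hc : ∀ q ∈ [5, 3, 7, 11, 23, 29, 31, 37, 43], q.Prime → Nat.Coprime (orderOf g) q :=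
      fun q hq hp => ((hp.coprime_iff_not_dvd).2 (h q hq)).symm
    exact (((((((((hc 3 (by simp) (by norm_num)).pow_right 3).mul_right
      (hc 5 (by simp) (by norm_num))).mul_right (hc 7 (by simp) (by norm_num))).mul_right
      ((hc 11 (by simp) (by norm_num)).pow_right 3)).mul_right
      (hc 23 (by simp) (by norm_num))).mul_right (hc 29 (by simp) (by norm_num))).mul_right
      (hc 31 (by simp) (by norm_num))).mul_right (hc 37 (by simp) (by norm_num))).mul_right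
      (hc 43 (by simp) (by norm_num))
  · rintro ⟨k, hk⟩ q hq hd
    have h2 : q ∣ 2 ^ k := hd.trans (orderOf_dvd_of_pow_eq_one hk)
    have hp : ∀ q ∈ [5, 3, 7, 11, 23, 29, 31, 37, 43], q.Prime ∧ q ≠ 2 := by decide +kernel
    obtain ⟨hq1, hq2⟩ := hp q hq
    exact hq2 ((Nat.prime_dvd_prime_iff_eq hq1 Nat.prime_two).1 (hq1.dvd_of_dvd_pow h2))

end CfsgLib.Spor.J4Class
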