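import Cfsg.Agent.Lib.Spor.J4Class.Stage
import Cfsg.Agent.Lib.Spor.J4Class.M22Data
import Cfsg.Agent.Lib.Spor.McLInvol.M22
import Cfsg.Agent.Lib.Spor.MathieuDegreeBound

/-!
The elements of `M22` whose order is prime to `3 * 7 * 11` fall into at most six classes: the
two-elements are conjugate into the Sylow subgroup of order 128, where each is certified conjugate
to one of five representatives, and a subgroup of order five is its own centraliser with all
generators conjugate.
-/

set_option autoImplicit false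
set_option maxRecDepth 100000
set_option linter.style.haveILetI false

namespace CfsgLib.Spor.J4Class

open Cfsg CfsgLib.Spor CfsgLib.MathieuOut
open scoped Pointwise
open CfsgLib.Spor.McLInvol (mCode mCode_inj compP_mCode exists_mCode okCode sylEls sylM mem_sylM
  card_sylM)

attribute [local irreducible] compP packL normP

/-- the certificate for the classes of two-elements -/
def m22TwoCheck : Bool :=
  Nat.beq m22TwoTable.length sylEls.length && Nat.beq m22TwoReps.length 5 &&
    m22TwoReps.all okCode &&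
    (sylEls.zip m22TwoTable).all fun p => okCode p.2.1 && Nat.blt p.2.2 5 &&
      Nat.beq (compP p.1 p.2.1) (compP p.2.1 (m22TwoReps.getD p.2.2 0))

theorem m22TwoCheck_ok : m22TwoCheck = true := by decide +kernel

/-- five representatives meet every element of the Sylow subgroup -/
theorem sylM_cover : ∃ r : Fin 5 → ↥Spor.M22, ∀ s ∈ sylM, ∃ k, IsConj s (r k) := by
  have h := m22TwoCheck_ok
  simp only [m22TwoCheck, Bool.and_eq_true, Nat.beq_eq, List.all_eq_true] at h
  obtain ⟨⟨⟨hlen, hrl⟩, hreps⟩, hall⟩ := h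
  have hr : ∀ k : Fin 5, ∃ σ : ↥Spor.M22, mCode σ = m22TwoReps.getD k 0 := by
    intro k
    have hk : (k : ℕ) < m22TwoReps.length := by have := k.2; omega
    rw [List.getD_eq_getElem _ _ hk]
    exact exists_mCode (hreps _ (List.getElem_mem hk))
  choose r hr using hr
  refine ⟨r, fun s hs => ?_⟩
  obtain ⟨n, hn, hne⟩ := List.getElem_of_mem (mem_sylM.1 hs)
  have hn' : n < m22TwoTable.length := hlen ▸ hn
  have hp := hall (sylEls[n]'hn, m22TwoTable[n]'hn') (by
    rw [List.mem_iff_getElem]
    exact ⟨n, by rw [List.length_zip]; exact lt_min hn hn', List.getElem_zip⟩)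
  simp only [Nat.blt_eq] at hp
  obtain ⟨⟨hg, hk⟩, he⟩ := hp
  obtain ⟨g, hgc⟩ := exists_mCode hg
  refine ⟨⟨(m22TwoTable[n]).2, hk⟩, ?_⟩
  have he2 : compP (mCode s) (mCode g) = compP (mCode g) (mCode (r ⟨_, hk⟩)) := by
    rw [hr, ← hne, hgc]
    rw [hgc] at *
    exact he
  rw [compP_mCode, compP_mCode] at he2
  have he' := mCode_inj he2
  exact isConj_iff.2 ⟨g⁻¹, by rw [inv_inv, mul_assoc, he', inv_mul_cancel_left]⟩

/-- six classes cover the elements of `M22` of order prime to `3 * 7 * 11` -/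
theorem m22_classes : ∃ f : Fin 6 → ↥Cfsg.Spor.M22,
    ∀ a, Avoid [3, 7, 11] (orderOf a) → ∃ i, IsConj a (f i) := by
  obtain ⟨-, -, C, -, -, hC, -, -, cC, -, -, -, -, hCj⟩ := m22_data
  obtain ⟨r, hr⟩ := sylM_cover
  refine ⟨Fin.snoc r C, fun a ha => ?_⟩
  have hG : Nat.card ↥Spor.M22 = 443520 := natCard_M22
  haveI : Fact (Nat.Prime 5) := ⟨by norm_num⟩
  haveI : Fact (Nat.Prime 2) := ⟨by norm_num⟩
  by_cases h5 : 5 ∣ orderOf a
  · refine ⟨Fin.last 5, ?_⟩
    rw [Fin.snoc_last]
    have hb : orderOf (a ^ (orderOf a / 5)) = 5 := by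
      rw [orderOf_pow_of_dvd (Nat.div_pos (Nat.le_of_dvd (orderOf_pos a) h5) (by norm_num)).ne'
        (Nat.div_dvd_of_dvd h5), Nat.div_div_self h5 (orderOf_pos a).ne']
    have hsyl : ∀ x : ↥Spor.M22, orderOf x = 5 → ∃ S : Sylow 5 ↥Spor.M22,
        (S : Subgroup ↥Spor.M22) = Subgroup.zpowers x := by
      intro x hx
      refine ⟨(IsPGroup.of_card (n := 1) (by rw [Nat.card_zpowers, hx, pow_one]) :
        IsPGroup 5 (Subgroup.zpowers x)).toSylow ?_, rfl⟩
      have h1 := (Subgroup.zpowers x).card_mul_index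
      rw [Nat.card_zpowers, hx, hG] at h1
      omega
    obtain ⟨S, hS⟩ := hsyl _ hb
    obtain ⟨T, hT⟩ := hsyl C hC
    obtain ⟨g, hg⟩ := MulAction.exists_smul_eq ↥Spor.M22 S T
    have hmem : MulAut.conj g • (a ^ (orderOf a / 5)) ∈ (g • S : Sylow 5 ↥Spor.M22) :=
      Subgroup.smul_mem_pointwise_smul _ _ _ (hS ▸ Subgroup.mem_zpowers _ :
        a ^ (orderOf a / 5) ∈ (S : Subgroup ↥Spor.M22))
    rw [hg] at hmem
    have hmem' : MulAut.conj g • (a ^ (orderOf a / 5)) ∈ Subgroup.zpowers C := hT ▸ hmem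
    rw [MulAut.smul_def, MulAut.conj_apply] at hmem'
    obtain ⟨j, hj, hjC⟩ := (mem_zpowers_iff_mem_range_orderOf.1 hmem') |> Finset.mem_image.1
    rw [Finset.mem_range, hC] at hj
    have hj0 : j ≠ 0 := by
      rintro rfl
      rw [pow_zero] at hjC
      have h1 : orderOf (g * a ^ (orderOf a / 5) * g⁻¹) = 5 := by
        rw [← MulAut.conj_apply]; exact (orderOf_injective (MulAut.conj g).toMonoidHom
          (MulAut.conj g).injective _).trans hb
      rw [← hjC, orderOf_one] at h1
      omega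
    -- the element commutes with its power, so it is a power of it
    obtain ⟨c, hc⟩ := isConj_iff.1 (hCj j hj hj0)
    have hgb : (c * g) * a ^ (orderOf a / 5) * (c * g)⁻¹ = C := by
      rw [← hc, hjC]; group
    set d := (c * g) * a * (c * g)⁻¹ with hd
    have hdC : d ∈ Subgroup.centralizer ({C} : Set ↥Spor.M22) := by
      rw [Subgroup.mem_centralizer_singleton_iff, ← hgb, hd, conj_mul, conj_mul,
        (Commute.self_pow a _).eq]
    have hdo : orderOf d = orderOf a :=
      (orderOf_injective (MulAut.conj (c * g)).toMonoidHom (MulAut.conj (c * g)).injective a)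
    have hd5 : orderOf d = 5 := by
      have h1 := Subgroup.orderOf_dvd_natCard _ hdC
      rw [cC, hdo] at h1
      rw [hdo]
      exact Nat.dvd_antisymm h1 h5
    have had : IsConj a d := isConj_iff.2 ⟨_, hd.symm⟩
    have ha5 : orderOf a / 5 = 1 := by rw [← hdo, hd5]
    rw [ha5, pow_one] at hgb
    exact isConj_iff.2 ⟨_, hgb⟩
  · -- two-elements
    have h2 : orderOf a ∣ 2 ^ 7 := by
      have h1 : orderOf a ∣ 2 ^ 7 * 3465 := by
        have := orderOf_dvd_natCard a
        rwa [hG] at this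
      refine Nat.Coprime.dvd_of_dvd_mul_right ?_ h1
      have h3 := ha 3 (by simp)
      have h7 := ha 7 (by simp)
      have h11 := ha 11 (by simp)
      have c3 : Nat.Coprime (orderOf a) 3 :=
        ((Nat.Prime.coprime_iff_not_dvd (by norm_num)).2 h3).symm
      have c5 : Nat.Coprime (orderOf a) 5 :=
        ((Nat.Prime.coprime_iff_not_dvd (by norm_num)).2 h5).symm
      have c7 : Nat.Coprime (orderOf a) 7 :=
        ((Nat.Prime.coprime_iff_not_dvd (by norm_num)).2 h7).symm
      have c11 : Nat.Coprime (orderOf a) 11 :=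
        ((Nat.Prime.coprime_iff_not_dvd (by norm_num)).2 h11).symm
      rw [show (3465 : ℕ) = 3 * 3 * 5 * 7 * 11 by norm_num]
      exact ((((c3.mul_right c3).mul_right c5).mul_right c7).mul_right c11)
    obtain ⟨m, -, hm⟩ := (Nat.dvd_prime_pow Nat.prime_two).1 h2
    have hp : IsPGroup 2 (Subgroup.zpowers a) :=
      IsPGroup.of_card (n := m) (by rw [Nat.card_zpowers, hm])
    obtain ⟨P, hP⟩ := hp.exists_le_sylow
    have hsylM : ¬ 2 ∣ sylM.index := by
      have h1 := sylM.card_mul_index
      rw [card_sylM, hG] at h1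
      omega
    let S : Sylow 2 ↥Spor.M22 :=
      (IsPGroup.of_card (n := 7) (by rw [card_sylM]; rfl) : IsPGroup 2 sylM).toSylow hsylM
    obtain ⟨g, hg⟩ := MulAction.exists_smul_eq ↥Spor.M22 P S
    have hmem : MulAut.conj g • a ∈ (g • P : Sylow 2 ↥Spor.M22) :=
      Subgroup.smul_mem_pointwise_smul _ _ _ (hP (Subgroup.mem_zpowers a))
    rw [hg] at hmem
    obtain ⟨k, hk⟩ := hr _ (show g * a * g⁻¹ ∈ sylM by
      simpa [S, MulAut.smul_def] using hmem)
    refine ⟨k.castSucc, ?_⟩
    rw [Fin.snoc_castSucc]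
    exact (isConj_iff.2 ⟨g, rfl⟩ : IsConj a (g * a * g⁻¹)).trans hk

/-- the search plan for the centraliser of the representative of order eight -/
def m22e8Plan : List (ℕ × ℕ × List ℕ) :=
  [(0, 1, []), (23, 1, []), (6, 2, []), (7, 4, [8688833]), (1, 8, [14716939, 6557781, 9830549]),
    (5, 8, [13062145, 4845570, 13938692, 10170384, 11952160, 4038912, 8077824, 14919680])]

/-- the code of the identity -/
def oneP24 : ℕ := packL (List.range 24)

/-- squaring a code twice -/
def fourP (e : ℕ) : ℕ := compP (compP e e) (compP e e)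

theorem eight_check : (sylEls.zip m22TwoTable).all (fun p =>
    Nat.beq (fourP p.1) oneP24 || Nat.beq p.2.2 4) = true ∧
    Nat.beq (m22TwoReps.getD 4 0) 982035509525619903393440919917319232 = true := by
  decide +kernel

/-- the centraliser of an element of order eight has order eight -/
theorem m22_cent_eight : ∀ a : ↥Cfsg.Spor.M22, orderOf a = 8 →
    Nat.card ↥(Subgroup.centralizer ({a} : Set ↥Cfsg.Spor.M22)) = 8 := by
  intro a ha
  haveI : Fact (Nat.Prime 2) := ⟨by norm_num⟩
  have hG : Nat.card ↥Spor.M22 = 443520 := natCard_M22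
  have hprev : (([23, 0] : List ℕ).all fun b => Nat.blt b 24) = true := by decide
  have h := m22TwoCheck_ok
  simp only [m22TwoCheck, Bool.and_eq_true, Nat.beq_eq, List.all_eq_true] at h
  obtain ⟨⟨⟨hlen, hrl⟩, hreps⟩, hall⟩ := h
  obtain ⟨h8, h4⟩ := eight_check
  rw [Nat.beq_eq] at h4
  obtain ⟨R, hR⟩ := exists_mCode (hreps _ (List.getElem_mem (show 4 < m22TwoReps.length by omega)))
  rw [← List.getD_eq_getElem _ 0 (show 4 < m22TwoReps.length by omega), h4] at hR
  have hRrep : Rep (R : Equiv.Perm GolayPt) 982035509525619903393440919917319232 :=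
    hR ▸ rep_canon (R : Equiv.Perm GolayPt)
  have hcR := natCard_centralizer_cert stabG_M22 hprev (plan := m22e8Plan) (n := 8)
    (by decide +kernel) (by decide +kernel) (by decide +kernel) (by decide +kernel) R hRrep
  obtain ⟨P, hP⟩ := (IsPGroup.of_card (n := 3) (by rw [Nat.card_zpowers, ha]; rfl) :
    IsPGroup 2 (Subgroup.zpowers a)).exists_le_sylow
  have hsylM : ¬ 2 ∣ sylM.index := by
    have h1 := sylM.card_mul_index
    rw [card_sylM, hG] at h1
    omega
  let S : Sylow 2 ↥Spor.M22 :=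
    (IsPGroup.of_card (n := 7) (by rw [card_sylM]; rfl) : IsPGroup 2 sylM).toSylow hsylM
  obtain ⟨g, hg⟩ := MulAction.exists_smul_eq ↥Spor.M22 P S
  have hmem : MulAut.conj g • a ∈ (g • P : Sylow 2 ↥Spor.M22) :=
    Subgroup.smul_mem_pointwise_smul _ _ _ (hP (Subgroup.mem_zpowers a))
  rw [hg] at hmem
  have hmem' : g * a * g⁻¹ ∈ sylM := by simpa [S, MulAut.smul_def] using hmem
  set s := g * a * g⁻¹ with hs
  have hso : orderOf s = 8 :=
    (orderOf_injective (MulAut.conj g).toMonoidHom (MulAut.conj g).injective a).trans ha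
  obtain ⟨n, hn, hne⟩ := List.getElem_of_mem (mem_sylM.1 hmem')
  have hn' : n < m22TwoTable.length := hlen ▸ hn
  have hz : (sylEls[n]'hn, m22TwoTable[n]'hn') ∈ sylEls.zip m22TwoTable := by
    rw [List.mem_iff_getElem]
    exact ⟨n, by rw [List.length_zip]; exact lt_min hn hn', List.getElem_zip⟩
  have hp := hall _ hz
  have hp8 := List.all_eq_true.1 h8 _ hz
  simp only [Bool.or_eq_true, Nat.beq_eq] at hp8
  simp only [Nat.blt_eq] at hp
  obtain ⟨⟨hgk, -⟩, he⟩ := hp
  have hk4 : (m22TwoTable[n]).2 = 4 := by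
    rcases hp8 with h | h
    · exfalso
      have e : fourP (mCode s) = mCode (s ^ 4) := by
        rw [fourP, compP_mCode, compP_mCode]
        congr 1
        try rw [show (4 : ℕ) = 2 + 2 from rfl, pow_add, pow_two]
      rw [hne, e, oneP24, ← McLInvol.mCode_one] at h
      have := orderOf_dvd_of_pow_eq_one (mCode_inj h)
      rw [hso] at this
      norm_num at this
    · exact h
  obtain ⟨c, hc⟩ := exists_mCode hgk
  rw [hk4, h4, ← hR] at he
  have he2 : compP (mCode s) (mCode c) = compP (mCode c) (mCode R) := by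
    rw [← hne, hc]
    exact he
  rw [compP_mCode, compP_mCode] at he2
  have he' := mCode_inj he2
  have hconj : (g⁻¹ * c) * R * (g⁻¹ * c)⁻¹ = a := by
    calc (g⁻¹ * c) * R * (g⁻¹ * c)⁻¹ = g⁻¹ * (c * R) * c⁻¹ * g := by group
      _ = g⁻¹ * (s * c) * c⁻¹ * g := by rw [he']
      _ = a := by rw [hs]; group
  rw [← hcR, ← hconj]
  exact (Nat.card_congr (centEquiv (g⁻¹ * c) R).toEquiv).symm

end CfsgLib.Spor.J4Class
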