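import Mathlib
import Cfsg.Prelude.Def_TwoFusion

/-!
Counting classes by sections: the number of conjugacy classes meeting a set, the classes with a
given part of prime order against the classes of the centraliser, and direct products.
-/

set_option autoImplicit false
set_option linter.unusedSectionVars false
set_option linter.unusedFintypeInType false
set_option linter.style.haveILetI false

namespace CfsgLib.Spor.J4Class

open Subgroup

variable {G H : Type*} [Group G] [Group H]

/-- the number of classes meeting a set -/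
noncomputable def nCl (s : Set G) : ℕ := (ConjClasses.mk '' s).ncard

theorem nCl_univ : nCl (Set.univ : Set G) = Nat.card (ConjClasses G) := by
  rw [nCl, Set.image_univ_of_surjective ConjClasses.mk_surjective, Set.ncard_univ]

theorem nCl_eq_of_reps {s : Set G} {ι : Type*} [Fintype ι] (f : ι → G) (hm : ∀ i, f i ∈ s)
    (hd : ∀ i j, IsConj (f i) (f j) → i = j) (hc : ∀ a ∈ s, ∃ i, IsConj a (f i)) :
    nCl s = Fintype.card ι := by
  have h : ConjClasses.mk '' s = Set.range (fun i => ConjClasses.mk (f i)) := by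
    ext c
    constructor
    · rintro ⟨a, ha, rfl⟩
      obtain ⟨i, hi⟩ := hc a ha
      exact ⟨i, ConjClasses.mk_eq_mk_iff_isConj.2 hi.symm⟩
    · rintro ⟨i, rfl⟩
      exact ⟨f i, hm i, rfl⟩
  rw [nCl, h, Set.ncard_range_of_injective (fun i j e => hd i j (ConjClasses.mk_eq_mk_iff_isConj.1 e)),
    Nat.card_eq_fintype_card]

theorem exists_reps [Finite G] (s : Set G) : ∃ f : Fin (nCl s) → G, (∀ i, f i ∈ s) ∧
    (∀ i j, IsConj (f i) (f j) → i = j) ∧ ∀ a ∈ s, ∃ i, IsConj a (f i) := by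
  classical
  haveI : Finite (ConjClasses G) := Finite.of_surjective _ ConjClasses.mk_surjective
  let e : ↥(ConjClasses.mk '' s) ≃ Fin (nCl s) := Finite.equivFinOfCardEq (Nat.card_coe_set_eq _)
  choose g hg1 hg2 using fun c : ↥(ConjClasses.mk '' s) => c.2
  refine ⟨fun i => g (e.symm i), fun i => hg1 _, fun i j h => ?_, fun a ha => ?_⟩
  · apply e.symm.injective
    apply Subtype.ext
    rw [← hg2 (e.symm i), ← hg2 (e.symm j)]
    exact ConjClasses.mk_eq_mk_iff_isConj.2 h
  · refine ⟨e ⟨_, a, ha, rfl⟩, ?_⟩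
    show IsConj a (g (e.symm (e _)))
    erw [Equiv.symm_apply_apply]
    exact ConjClasses.mk_eq_mk_iff_isConj.1 (hg2 ⟨_, a, ha, rfl⟩).symm

theorem nCl_congr {s t : Set G} (h : ∀ a, a ∈ s ↔ a ∈ t) : nCl s = nCl t := by
  rw [Set.ext h]

theorem nCl_union [Finite G] {s t : Set G} (h : ∀ a ∈ s, ∀ b ∈ t, ¬ IsConj a b) :
    nCl (s ∪ t) = nCl s + nCl t := by
  haveI : Finite (ConjClasses G) := Finite.of_surjective _ ConjClasses.mk_surjective
  rw [nCl, Set.image_union]
  refine Set.ncard_union_eq ?_ (Set.toFinite _) (Set.toFinite _)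
  rw [Set.disjoint_left]
  rintro _ ⟨a, ha, rfl⟩ ⟨b, hb, e⟩
  exact h a ha b hb (ConjClasses.mk_eq_mk_iff_isConj.1 e).symm

/-- splitting by a predicate on orders -/
theorem nCl_split [Finite G] (P Q : ℕ → Prop) :
    nCl {g : G | P (orderOf g)} =
      nCl {g : G | P (orderOf g) ∧ Q (orderOf g)} + nCl {g : G | P (orderOf g) ∧ ¬ Q (orderOf g)} := by
  rw [← nCl_union]
  · exact nCl_congr fun a => by simp [← and_or_left, em]
  · rintro a ⟨-, ha⟩ b ⟨-, hb⟩ h
    obtain ⟨c, rfl⟩ := isConj_iff.1 h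
    rw [← MulAut.conj_apply, MulEquiv.orderOf_eq] at hb
    exact hb ha

theorem nCl_equiv (e : G ≃* H) (P : ℕ → Prop) :
    nCl {g : G | P (orderOf g)} = nCl {g : H | P (orderOf g)} := by
  have hinj : Function.Injective (ConjClasses.map e.toMonoidHom) := by
    intro a b h
    obtain ⟨a, rfl⟩ := ConjClasses.mk_surjective a
    obtain ⟨b, rfl⟩ := ConjClasses.mk_surjective b
    obtain ⟨c, hc⟩ := isConj_iff.1 (ConjClasses.mk_eq_mk_iff_isConj.1 h)
    exact ConjClasses.mk_eq_mk_iff_isConj.2 (isConj_iff.2 ⟨e.symm c, e.injective (by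
      simpa using hc)⟩)
  have hs : ConjClasses.mk '' {g : H | P (orderOf g)} =
      ConjClasses.map e.toMonoidHom '' (ConjClasses.mk '' {g : G | P (orderOf g)}) := by
    ext c
    constructor
    · rintro ⟨b, hb, rfl⟩
      refine ⟨_, ⟨e.symm b, ?_, rfl⟩, ?_⟩
      · show P _
        rwa [MulEquiv.orderOf_eq]
      · show ConjClasses.mk (e (e.symm b)) = _
        rw [MulEquiv.apply_symm_apply]
    · rintro ⟨_, ⟨a, ha, rfl⟩, rfl⟩
      refine ⟨e a, ?_, rfl⟩
      show P _
      rwa [MulEquiv.orderOf_eq]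
  rw [nCl, nCl, hs, Set.ncard_image_of_injective _ hinj]

theorem orderOf_isConj {a b : G} (h : IsConj a b) : orderOf a = orderOf b := by
  obtain ⟨c, rfl⟩ := isConj_iff.1 h
  rw [← MulAut.conj_apply, MulEquiv.orderOf_eq]

/-- a power separating two commuting elements of coprime order -/
theorem exists_pow_left (n m : ℕ) (h : Nat.Coprime n m) :
    ∃ k : ℕ, ∀ u v : G, Commute u v → u ^ n = 1 → v ^ m = 1 → (u * v) ^ k = u := by
  obtain ⟨k, hk1, hk2⟩ := Nat.chineseRemainder h 1 0
  refine ⟨k, fun u v huv hu hv => ?_⟩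
  rw [huv.mul_pow]
  have e1 : u ^ k = u := by
    conv_rhs => rw [← pow_one u]
    exact (pow_eq_pow_iff_modEq).2 (hk1.of_dvd (orderOf_dvd_of_pow_eq_one hu))
  have e2 : v ^ k = 1 :=
    (pow_eq_one_iff_modEq).2 (hk2.of_dvd (orderOf_dvd_of_pow_eq_one hv))
  rw [e1, e2, mul_one]

/-- the decomposition at a prime dividing the order exactly once -/
theorem exists_parts {g : G} {p : ℕ} (hp : p.Prime) (hd : p ∣ orderOf g)
    (hd2 : ¬ p ^ 2 ∣ orderOf g) :
    ∃ u v : G, g = u * v ∧ Commute u v ∧ orderOf u = p ∧ orderOf g = p * orderOf v ∧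
      ¬ p ∣ orderOf v := by
  obtain ⟨m, hm⟩ := hd
  have hpm : ¬ p ∣ m := fun ⟨j, hj⟩ => hd2 ⟨j, by rw [hm, hj]; ring⟩
  have hco : Nat.Coprime p m := (hp.coprime_iff_not_dvd).2 hpm
  obtain ⟨a, ha1, ha2⟩ := Nat.chineseRemainder hco 1 0
  obtain ⟨b, hb1, hb2⟩ := Nat.chineseRemainder hco 0 1
  have hg : g ^ a * g ^ b = g := by
    rw [← pow_add]
    conv_rhs => rw [← pow_one g]
    rw [pow_eq_pow_iff_modEq, hm]
    exact (Nat.modEq_and_modEq_iff_modEq_mul hco).1 ⟨by simpa using ha1.add hb1,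
      by simpa using ha2.add hb2⟩
  have hc : Commute (g ^ a) (g ^ b) := Commute.pow_pow_self g a b
  have hu : orderOf (g ^ a) ∣ p := by
    rw [orderOf_dvd_iff_pow_eq_one, ← pow_mul, ← orderOf_dvd_iff_pow_eq_one, hm, mul_comm p]
    exact mul_dvd_mul_right ((Nat.modEq_zero_iff_dvd).1 ha2) p
  have hv : orderOf (g ^ b) ∣ m := by
    rw [orderOf_dvd_iff_pow_eq_one, ← pow_mul, ← orderOf_dvd_iff_pow_eq_one, hm]
    exact mul_dvd_mul_right ((Nat.modEq_zero_iff_dvd).1 hb1) m
  have hco' : Nat.Coprime (orderOf (g ^ a)) (orderOf (g ^ b)) :=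
    (hco.of_dvd hu hv)
  have hord := hc.orderOf_mul_eq_mul_orderOf_of_coprime hco'
  rw [hg, hm] at hord
  have hup : orderOf (g ^ a) = p := by
    refine ((Nat.dvd_prime hp).1 hu).resolve_left fun h1 => hpm ?_
    rw [h1, one_mul] at hord
    exact (Dvd.intro m hord : p ∣ orderOf (g ^ b)).trans hv
  refine ⟨_, _, hg.symm, hc, hup, ?_, fun h => hpm (h.trans hv)⟩
  rw [hm, hord, hup]

theorem part_unique {x u v v' : G} {p : ℕ} (hp : p.Prime) (hx : orderOf x = p) (hu : orderOf u = p)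
    (hxv : Commute x v) (huv : Commute u v') (hv : ¬ p ∣ orderOf v) (hv' : ¬ p ∣ orderOf v')
    {c : G} (h : c * (x * v) * c⁻¹ = u * v') : c * x * c⁻¹ = u ∧ c * v * c⁻¹ = v' := by
  have ho : orderOf v = orderOf v' := by
    have e := orderOf_isConj (isConj_iff.2 ⟨c, h⟩)
    rw [hxv.orderOf_mul_eq_mul_orderOf_of_coprime (hx ▸ (hp.coprime_iff_not_dvd).2 hv),
      huv.orderOf_mul_eq_mul_orderOf_of_coprime (hu ▸ (hp.coprime_iff_not_dvd).2 hv'), hx, hu] at e
    exact Nat.eq_of_mul_eq_mul_left hp.pos e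
  obtain ⟨k, hk⟩ := exists_pow_left (G := G) p (orderOf v) ((hp.coprime_iff_not_dvd).2 hv)
  have e1 := hk x v hxv (hx ▸ pow_orderOf_eq_one x) (pow_orderOf_eq_one v)
  have e2 := hk u v' huv (hu ▸ pow_orderOf_eq_one u) (ho ▸ pow_orderOf_eq_one v')
  rw [← h, conj_pow, e1] at e2
  refine ⟨e2, mul_left_cancel (a := u) ?_⟩
  calc u * (c * v * c⁻¹) = c * x * c⁻¹ * (c * v * c⁻¹) := by rw [e2]
    _ = c * (x * v) * c⁻¹ := by group
    _ = _ := h

/-- The classes of elements of order divisible by `p`, with a condition on the rest of the order,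
from the classes of the elements of order `p` and of the centralisers. -/
theorem nCl_sections [Finite G] {p k c : ℕ} (hp : p.Prime)
    (hexp : ∀ g : G, ¬ p ^ 2 ∣ orderOf g) (T : ℕ → Prop)
    (hc : nCl {x : G | orderOf x = p} = c)
    (hk : ∀ x : G, orderOf x = p →
      nCl {h : ↥(centralizer ({x} : Set G)) | ¬ p ∣ orderOf h ∧ T (orderOf h)} = k) :
    nCl {g : G | p ∣ orderOf g ∧ T (orderOf g / p)} = c * k := by
  classical
  obtain ⟨f, hf1, hf2, hf3⟩ := exists_reps {x : G | orderOf x = p}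
  choose r hr1 hr2 hr3 using fun i => exists_reps
    {h : ↥(centralizer ({f i} : Set G)) | ¬ p ∣ orderOf h ∧ T (orderOf h)}
  have hcard : Fintype.card (Σ i, Fin (nCl
      {h : ↥(centralizer ({f i} : Set G)) | ¬ p ∣ orderOf h ∧ T (orderOf h)})) = c * k := by
    rw [Fintype.card_sigma, Finset.sum_congr rfl (fun i _ => by
      rw [Fintype.card_fin, hk (f i) (hf1 i)]), Finset.sum_const, Finset.card_univ,
      Fintype.card_fin, hc, smul_eq_mul]
  have hcm : ∀ i j, Commute (f i) ((r i j : ↥(centralizer ({f i} : Set G))) : G) := fun i j =>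
    (mem_centralizer_singleton_iff.1 (r i j).2).symm
  rw [← hcard]
  refine nCl_eq_of_reps (fun q => f q.1 * ((r q.1 q.2 : ↥(centralizer ({f q.1} : Set G))) : G))
    (fun q => ?_) ?_ ?_
  · obtain ⟨h1, h2⟩ := hr1 q.1 q.2
    rw [← Subgroup.orderOf_coe] at h1 h2
    have e := (hcm q.1 q.2).orderOf_mul_eq_mul_orderOf_of_coprime
      (by rw [show orderOf (f q.1) = p from hf1 q.1]; exact (hp.coprime_iff_not_dvd).2 h1)
    rw [show orderOf (f q.1) = p from hf1 q.1] at e
    show p ∣ orderOf _ ∧ T _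
    rw [e, Nat.mul_div_cancel_left _ hp.pos]
    exact ⟨dvd_mul_right _ _, h2⟩
  · rintro ⟨i, j⟩ ⟨i', j'⟩ h
    obtain ⟨d, hd⟩ := isConj_iff.1 h
    have h1 := (hr1 i j).1
    have h1' := (hr1 i' j').1
    rw [← Subgroup.orderOf_coe] at h1 h1'
    obtain ⟨e1, e2⟩ := part_unique hp (hf1 i) (hf1 i') (hcm i j) (hcm i' j') h1 h1' hd
    obtain rfl := hf2 i i' (isConj_iff.2 ⟨d, e1⟩)
    have hdc : d ∈ centralizer ({f i} : Set G) :=
      mem_centralizer_singleton_iff.2 (mul_inv_eq_iff_eq_mul.1 e1)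
    obtain rfl := hr2 i j j' (isConj_iff.2 ⟨⟨d, hdc⟩, Subtype.ext e2⟩)
    rfl
  · rintro g ⟨hg1, hg2⟩
    obtain ⟨u, v, rfl, huv, hu, hord, hv⟩ := exists_parts hp hg1 (hexp g)
    rw [hord, Nat.mul_div_cancel_left _ hp.pos] at hg2
    obtain ⟨i, hi⟩ := hf3 u hu
    obtain ⟨d, hd⟩ := isConj_iff.1 hi
    have hv' : d * v * d⁻¹ ∈ centralizer ({f i} : Set G) := by
      refine mem_centralizer_singleton_iff.2 ?_
      rw [← hd]
      calc d * v * d⁻¹ * (d * u * d⁻¹) = d * (v * u) * d⁻¹ := by group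
        _ = d * (u * v) * d⁻¹ := by rw [huv.eq]
        _ = _ := by group
    obtain ⟨j, hj⟩ := hr3 i ⟨_, hv'⟩ (by
      show ¬ p ∣ orderOf _ ∧ T _
      rw [Subgroup.orderOf_mk, ← MulAut.conj_apply, MulEquiv.orderOf_eq]
      exact ⟨hv, hg2⟩)
    obtain ⟨e, he⟩ := isConj_iff.1 hj
    refine ⟨⟨i, j⟩, isConj_iff.2 ⟨(e : G) * d, ?_⟩⟩
    have he' : (e : G) * (d * v * d⁻¹) * (e : G)⁻¹ = _ := congrArg Subtype.val he
    have hfe : (e : G) * f i * (e : G)⁻¹ = f i :=
      mul_inv_eq_iff_eq_mul.2 (mem_centralizer_singleton_iff.1 e.2)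
    show (e : G) * d * (u * v) * ((e : G) * d)⁻¹ = f i * _
    calc (e : G) * d * (u * v) * ((e : G) * d)⁻¹
        = (e : G) * (d * u * d⁻¹) * (e : G)⁻¹ * ((e : G) * (d * v * d⁻¹) * (e : G)⁻¹) := by group
      _ = _ := by rw [he', hd, hfe]

/-- classes of the coprime elements of a central product with a group of order prime to `T` -/
theorem nCl_of_directProduct [Finite G] {x : G} {p : ℕ} (hp : p.Prime) (hx : orderOf x = p)
    {Q S : Subgroup G} (hxQ : Q = zpowers x) (hS : ¬ p ∣ Nat.card ↥S)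
    (h : Cfsg.IsInternalDirectProduct Q S (centralizer ({x} : Set G))) (T : ℕ → Prop) :
    nCl {y : ↥(centralizer ({x} : Set G)) | ¬ p ∣ orderOf y ∧ T (orderOf y)} =
      nCl {y : ↥S | T (orderOf y)} := by
  obtain ⟨hQ, hSC, hcom, -, hsup⟩ := h
  have hdec : ∀ g ∈ centralizer ({x} : Set G), ∃ i : ℤ, ∃ s ∈ S, g = x ^ i * s := by
    intro g hg
    have hn : Q ≤ normalizer (S : Set G) := fun a ha => mem_normalizer_iff.2 fun b => by
      constructor
      · intro hb
        rwa [hcom a ha b hb, mul_inv_cancel_right]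
      · intro hb
        have := hcom a⁻¹ (inv_mem ha) _ hb
        rw [show a⁻¹ * (a * b * a⁻¹) = b * a⁻¹ by group] at this
        rw [mul_left_injective a⁻¹ this]
        exact hb
    rw [← hsup, ← SetLike.mem_coe, coe_mul_of_left_le_normalizer_right Q S hn] at hg
    obtain ⟨a, ha, s, hs, rfl⟩ := hg
    obtain ⟨i, rfl⟩ := mem_zpowers_iff.1 (hxQ ▸ ha : a ∈ zpowers x)
    exact ⟨i, s, hs, rfl⟩
  have hmemS : ∀ g ∈ centralizer ({x} : Set G), ¬ p ∣ orderOf g → g ∈ S := by
    intro g hg hd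
    obtain ⟨i, s, hs, rfl⟩ := hdec g hg
    have hxi : x ^ i ∈ Q := hxQ ▸ zpow_mem (mem_zpowers x) i
    have hc : Commute (x ^ i) s := hcom _ hxi s hs
    have hco : Nat.Coprime (orderOf (x ^ i)) (orderOf s) := by
      refine Nat.Coprime.of_dvd_left (orderOf_dvd_of_mem_zpowers
        (zpow_mem (mem_zpowers x) i) |>.trans (dvd_of_eq hx)) ?_
      refine (hp.coprime_iff_not_dvd).2 fun hps => hS (hps.trans ?_)
      rw [← Subgroup.orderOf_mk s hs]
      exact orderOf_dvd_natCard _
    have e := hc.orderOf_mul_eq_mul_orderOf_of_coprime hco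
    have h1 : orderOf (x ^ i) = 1 := by
      refine ((Nat.dvd_prime hp).1 ((orderOf_dvd_of_mem_zpowers
        (zpow_mem (mem_zpowers x) i)).trans (dvd_of_eq hx))).resolve_right fun h1 => hd ?_
      rw [e, h1]
      exact dvd_mul_right _ _
    rw [orderOf_eq_one_iff.1 h1, one_mul]
    exact hs
  obtain ⟨r, hr1, hr2, hr3⟩ := exists_reps {y : ↥S | T (orderOf y)}
  rw [show nCl {y : ↥S | T (orderOf y)} = Fintype.card (Fin (nCl {y : ↥S | T (orderOf y)})) from
    (Fintype.card_fin _).symm]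
  refine nCl_eq_of_reps (fun i => inclusion hSC (r i)) (fun i => ?_) ?_ ?_
  · show ¬ p ∣ orderOf _ ∧ T _
    rw [orderOf_injective (inclusion hSC) (inclusion_injective hSC)]
    exact ⟨fun hd => hS (hd.trans (orderOf_dvd_natCard _)), hr1 i⟩
  · intro i j hij
    obtain ⟨g, hg⟩ := isConj_iff.1 hij
    obtain ⟨n, s, hs, hgs⟩ := hdec g g.2
    refine hr2 i j (isConj_iff.2 ⟨⟨s, hs⟩, Subtype.ext ?_⟩)
    have e : (g : G) * (r i : G) * (g : G)⁻¹ = (r j : G) := congrArg Subtype.val hg
    have hc : Commute (x ^ n) ((⟨s, hs⟩ * r i * ⟨s, hs⟩⁻¹ : ↥S) : G) :=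
      hcom _ (hxQ ▸ zpow_mem (mem_zpowers x) n) _ (SetLike.coe_mem _)
    rw [hgs] at e
    rw [← e]
    show s * (r i : G) * s⁻¹ = _
    calc s * (r i : G) * s⁻¹ = x ^ n * (s * (r i : G) * s⁻¹) * (x ^ n)⁻¹ := by
          rw [show x ^ n * (s * (r i : G) * s⁻¹) = _ from hc.eq, mul_inv_cancel_right]; rfl
      _ = _ := by group
  · rintro y ⟨hy, hyT⟩
    have hyS := hmemS y y.2 (by rwa [Subgroup.orderOf_coe])
    obtain ⟨i, hi⟩ := hr3 ⟨y, hyS⟩ (by
      show T _
      rwa [Subgroup.orderOf_mk, Subgroup.orderOf_coe])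
    obtain ⟨e, he⟩ := isConj_iff.1 hi
    exact ⟨i, isConj_iff.2 ⟨inclusion hSC e, Subtype.ext (congrArg (fun w => ((w : ↥S) : G)) he)⟩⟩

/-- the classes of elements of prime order `p` when the subgroups of order `p` are conjugate -/
theorem nCl_prime_order [Finite G] {p c n : ℕ} (hp : p.Prime) (h2 : ¬ p ^ 2 ∣ Nat.card G)
    {u : G} (hu : orderOf u = p) (hc : Nat.card ↥(centralizer ({u} : Set G)) = c)
    (hn : Nat.card ↥(normalizer (zpowers u : Set G)) = n) :
    nCl {x : G | orderOf x = p} * n = (p - 1) * c := by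
  classical
  haveI := Fact.mk hp
  set N := normalizer (zpowers u : Set G)
  set U := zpowers u with hUdef
  have hUc : Nat.card ↥U = p := by rw [hUdef, Nat.card_zpowers, hu]
  have hgen : ∀ v ∈ U, v ≠ 1 → orderOf v = p ∧ zpowers v = U := by
    intro v hv hv1
    have h1 : orderOf v = p := ((Nat.dvd_prime hp).1
      ((orderOf_dvd_of_mem_zpowers hv).trans (dvd_of_eq hu))).resolve_left
        fun e => hv1 (orderOf_eq_one_iff.1 e)
    exact ⟨h1, eq_of_le_of_card_ge (zpowers_le.2 hv) (by rw [hUc, Nat.card_zpowers, h1])⟩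
  -- every element of order p is conjugate into U
  have hinto : ∀ x : G, orderOf x = p → ∃ v ∈ U, v ≠ 1 ∧ IsConj x v := by
    intro x hx
    have hf : (Nat.card G).factorization p = 1 := by
      apply le_antisymm
      · by_contra h
        exact h2 ((hp.pow_dvd_iff_le_factorization Nat.card_pos.ne').2 (by omega))
      · refine (hp.pow_dvd_iff_le_factorization Nat.card_pos.ne').1 ?_
        rw [pow_one, ← hu]
        exact orderOf_dvd_natCard u
    let P : Sylow p G := Sylow.ofCard (zpowers x) (by rw [Nat.card_zpowers, hx, hf, pow_one])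
    let Q : Sylow p G := Sylow.ofCard U (by rw [hUc, hf, pow_one])
    obtain ⟨g, hg⟩ := MulAction.exists_smul_eq G P Q
    refine ⟨g * x * g⁻¹, ?_, ?_, isConj_iff.2 ⟨g, rfl⟩⟩
    · have h1 : MulAut.conj g • x ∈ (g • P : Sylow p G) :=
        smul_mem_pointwise_smul _ _ _ (show x ∈ (P : Subgroup G) by
          rw [Sylow.coe_ofCard]; exact mem_zpowers x)
      rw [hg] at h1
      rw [← Sylow.coe_ofCard U (by rw [hUc, hf, pow_one])]
      exact h1
    · intro e
      rw [conj_eq_one_iff] at e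
      rw [e, orderOf_one] at hx
      exact hp.ne_one hx.symm
  -- the classes partition the non-trivial elements of U
  haveI : Finite (ConjClasses G) := Finite.of_surjective _ ConjClasses.mk_surjective
  letI : Fintype G := Fintype.ofFinite G
  set A : Finset G := Finset.univ.filter fun v => v ∈ U ∧ v ≠ 1 with hA
  have hAcard : A.card = p - 1 := by
    have : A = (Finset.univ.filter fun v => v ∈ U).erase 1 := by
      ext v; simp [hA, and_comm]
    rw [this, Finset.card_erase_of_mem (by simp [one_mem]), ← hUc, Nat.card_eq_fintype_card,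
      Fintype.card_subtype]
  have himg : ConjClasses.mk '' {x : G | orderOf x = p} = ↑(A.image ConjClasses.mk) := by
    ext q
    simp only [Finset.coe_image, Set.mem_image, Set.mem_ofPred_eq, Finset.mem_coe, hA,
      Finset.mem_filter, Finset.mem_univ, true_and]
    constructor
    · rintro ⟨x, hx, rfl⟩
      obtain ⟨v, hv, hv1, hxv⟩ := hinto x hx
      exact ⟨v, ⟨hv, hv1⟩, ConjClasses.mk_eq_mk_iff_isConj.2 hxv.symm⟩
    · rintro ⟨v, ⟨hv, hv1⟩, rfl⟩
      exact ⟨v, (hgen v hv hv1).1, rfl⟩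
  have hfib : ∀ q ∈ A.image ConjClasses.mk,
      (A.filter fun v => ConjClasses.mk v = q).card * c = n := by
    intro q hq
    obtain ⟨v, hv, rfl⟩ := Finset.mem_image.1 hq
    simp only [hA, Finset.mem_filter, Finset.mem_univ, true_and] at hv
    obtain ⟨hvp, hvU⟩ := hgen v hv.1 hv.2
    have hcv : centralizer ({v} : Set G) = centralizer ({u} : Set G) := by
      rw [← centralizer_closure, ← centralizer_closure ({u} : Set G), ← zpowers_eq_closure,
        ← zpowers_eq_closure, hvU]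
    set C := (centralizer ({v} : Set G)).subgroupOf N with hC
    have hCN : centralizer ({v} : Set G) ≤ N := by
      show _ ≤ normalizer (U : Set G)
      rw [← hvU, ← centralizer_closure, ← zpowers_eq_closure]
      exact centralizer_le_normalizer _
    have hCc : Nat.card ↥C = c := by
      rw [hC, Nat.card_congr (subgroupOfEquivOfLe hCN).toEquiv, hcv, hc]
    have horb : (A.filter fun w => ConjClasses.mk w = ConjClasses.mk v).card = Nat.card (↥N ⧸ C) := by
      rw [← Nat.card_eq_finsetCard]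
      let f : ↥N ⧸ C → ↥(A.filter fun w => ConjClasses.mk w = ConjClasses.mk v) :=
        Quotient.lift (fun g => ⟨(g : G) * v * (g : G)⁻¹, by
          simp only [hA, Finset.mem_filter, Finset.mem_univ, true_and]
          exact ⟨⟨(mem_normalizer_iff.1 g.2 v).1 hv.1, fun e => hv.2 (conj_eq_one_iff.1 e)⟩,
            ConjClasses.mk_eq_mk_iff_isConj.2 (isConj_iff.2 ⟨(g : G), rfl⟩).symm⟩⟩)
          fun g g' e => Subtype.ext (by
            have h : g⁻¹ * g' ∈ C := QuotientGroup.leftRel_apply.1 e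
            have h' := mem_centralizer_singleton_iff.1 (mem_subgroupOf.1 h)
            push_cast at h'
            calc (g : G) * v * (g : G)⁻¹
                = (g : G) * (v * ((g : G)⁻¹ * (g' : G))) * ((g : G)⁻¹ * (g' : G))⁻¹ * (g : G)⁻¹ := by
                  group
              _ = _ := by rw [← h']; group)
      refine (Nat.card_eq_of_bijective f ⟨?_, ?_⟩).symm
      · intro a b
        refine Quotient.inductionOn₂ a b fun g g' e => Quotient.sound ?_
        refine QuotientGroup.leftRel_apply.2 (mem_subgroupOf.2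
          (mem_centralizer_singleton_iff.2 ?_))
        have e' : (g : G) * v * (g : G)⁻¹ = (g' : G) * v * (g' : G)⁻¹ := congrArg Subtype.val e
        push_cast
        calc (g : G)⁻¹ * (g' : G) * v = (g : G)⁻¹ * ((g' : G) * v * (g' : G)⁻¹) * (g' : G) := by group
          _ = _ := by rw [← e']; group
      · rintro ⟨w, hw⟩
        simp only [hA, Finset.mem_filter, Finset.mem_univ, true_and] at hw
        obtain ⟨⟨hwU, hw1⟩, hwv⟩ := hw
        obtain ⟨g, hg⟩ := isConj_iff.1 (ConjClasses.mk_eq_mk_iff_isConj.1 hwv).symm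
        have hgN : g ∈ N := by
          show g ∈ normalizer (U : Set G)
          refine mem_normalizer_fintype fun a ha => ?_
          rw [SetLike.mem_coe, ← hvU] at ha
          obtain ⟨i, rfl⟩ := mem_zpowers_iff.1 ha
          rw [← conj_zpow, hg]
          exact zpow_mem hwU i
        exact ⟨Quotient.mk'' ⟨g, hgN⟩, Subtype.ext hg⟩
    rw [horb, ← hn, card_eq_card_quotient_mul_card_subgroup C, hCc]
  rw [nCl, himg, Set.ncard_coe_finset, ← hAcard,
    Finset.card_eq_sum_card_image (ConjClasses.mk : G → ConjClasses G) A, Finset.sum_mul,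
    Finset.sum_congr rfl hfib, Finset.sum_const, smul_eq_mul]

end CfsgLib.Spor.J4Class
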