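import Cfsg.Agent.Lib.Spor.J4Class.Stage
import Cfsg.Agent.Lib.Spor.J4Local.Arith
import Cfsg.Agent.S5573

/-!
The classes of a group of Janko-four type with order divisible by 7.
-/

set_option autoImplicit false
set_option maxRecDepth 100000
set_option linter.style.haveILetI false

namespace CfsgLib.Spor.J4Class

open Subgroup CfsgLib.Spor.J4Local

/-- representatives of the seven classes of the symmetric group of degree five -/
def repS5 : Fin 7 → Equiv.Perm (Fin 5) :=
  ![1, Equiv.swap 0 1, Equiv.swap 0 1 * Equiv.swap 2 3, Equiv.swap 0 1 * Equiv.swap 1 2,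
    Equiv.swap 0 1 * Equiv.swap 1 2 * Equiv.swap 3 4, Equiv.swap 0 1 * Equiv.swap 1 2 * Equiv.swap 2 3,
    Equiv.swap 0 1 * Equiv.swap 1 2 * Equiv.swap 2 3 * Equiv.swap 3 4]

theorem repS5_dist : ∀ i j : Fin 7, (∃ c, c * repS5 i * c⁻¹ = repS5 j) → i = j := by decide +kernel

theorem repS5_cover : ∀ a : Equiv.Perm (Fin 5), ∃ i : Fin 7, ∃ c, c * a * c⁻¹ = repS5 i := by
  decide +kernel

theorem seven_stage {G : Type*} [Group G] [Finite G] [IsSimpleGroup G]
    (hG : ¬ IsMulCommutative G) {z : G} (hJ : Cfsg.IsOfJankoFourTypeAt z)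
    (hcard : Nat.card G = ord4) (h7H : 7 ∣ Nat.card ↥(centralizer ({z} : Set G))) :
    stage G 7 [11, 23, 29, 31, 37, 43] = 14 := by
  haveI : Fact (Nat.Prime 7) := ⟨by norm_num⟩
  have h49 : ¬ 7 ^ 2 ∣ Nat.card G := by rw [hcard]; unfold ord4; norm_num
  have local7 : ∀ u : G, orderOf u = 7 → u ∈ centralizer ({z} : Set G) →
      Nat.card ↥(centralizer ({u} : Set G)) = 840 ∧
      Nat.card ↥(normalizer (zpowers u : Set G)) = 2520 ∧
      nCl {h : ↥(centralizer ({u} : Set G)) |
        ¬ 7 ∣ orderOf h ∧ Avoid [11, 23, 29, 31, 37, 43] (orderOf h)} = 7 := by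
    intro u hu huz
    obtain ⟨-, ⟨I, hI, ⟨e⟩⟩, h3, hN⟩ := Cfsg.Agent.S5573.result hG z hJ (zpowers u)
      (by rw [Nat.card_zpowers, hu]) (zpowers_le.2 huz)
    have hC : centralizer ((zpowers u : Subgroup G) : Set G) = centralizer ({u} : Set G) := by
      rw [← centralizer_closure ({u} : Set G), ← zpowers_eq_closure]
    rw [hC] at hI h3
    refine ⟨by omega, by rw [hN]; norm_num, ?_⟩
    have hIc : Nat.card ↥I = 120 := by
      rw [Nat.card_congr e.toEquiv, Nat.card_perm, Nat.card_eq_fintype_card, Fintype.card_fin]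
      rfl
    rw [nCl_of_directProduct (by norm_num) hu rfl (by rw [hIc]; norm_num) hI,
      nCl_equiv e (Avoid [11, 23, 29, 31, 37, 43])]
    rw [show (7 : ℕ) = Fintype.card (Fin 7) from rfl]
    refine nCl_eq_of_reps repS5 (fun i => ?_) (fun i j h => repS5_dist i j (isConj_iff.1 h))
      (fun a _ => ?_)
    · intro q hq hd
      have h120 : q ∣ 120 := hd.trans (by
        have h := orderOf_dvd_natCard (repS5 i)
        rwa [Nat.card_perm, Nat.card_eq_fintype_card, Fintype.card_fin] at h)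
      simp only [List.mem_cons, List.not_mem_nil, or_false] at hq
      rcases hq with rfl | rfl | rfl | rfl | rfl | rfl <;> norm_num at h120
    · obtain ⟨i, c, hc⟩ := repS5_cover a
      exact ⟨i, isConj_iff.2 ⟨c, hc⟩⟩
  obtain ⟨⟨u, huz⟩, hu⟩ := exists_prime_orderOf_dvd_card'
    (G := ↥(centralizer ({z} : Set G))) 7 h7H
  rw [orderOf_mk] at hu
  obtain ⟨hc, hn, -⟩ := local7 u hu huz
  have hcount : nCl {x : G | orderOf x = 7} = 2 := by
    have h := nCl_prime_order (by norm_num) h49 hu hc hn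
    omega
  rw [stage_eq (by norm_num) (not_sq_dvd_orderOf h49) (by decide +kernel) hcount (k := 7)]
  intro x hx
  obtain ⟨g, hg⟩ := exists_conj_into (by norm_num) h49 h7H hx
  rw [nCl_cent_isConj (isConj_iff.2 ⟨g, rfl⟩) (fun n => ¬ 7 ∣ n ∧ Avoid [11, 23, 29, 31, 37, 43] n)]
  exact (local7 _ (by rw [← MulAut.conj_apply, MulEquiv.orderOf_eq, hx]) hg).2.2

end CfsgLib.Spor.J4Class
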