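import Cfsg.Agent.Lib.Spor.J4Class.ThreeJ4
import Cfsg.Agent.Lib.Spor.J4Class.M22Classes
import Cfsg.Agent.Lib.Spor.J4Local.Final
import Cfsg.Agent.S5563
import Cfsg.Agent.S5564
import Cfsg.Agent.S5565

/-!
The classes of a group of Janko-four type with order divisible by 3 and by none of the larger primes.
-/

set_option autoImplicit false
set_option maxRecDepth 100000
set_option linter.style.haveILetI false

namespace CfsgLib.Spor.J4Class

open Subgroup CfsgLib.Spor.J4Rep CfsgLib.Spor.J4Local ThreeData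

theorem three_stage {G : Type*} [Group G] [Finite G] [IsSimpleGroup G] (hG : ¬ IsMulCommutative G) {z : G}
    {P : Subgroup G} (hJ : Cfsg.IsOfJankoFourTypeWith z P) (φ : G ≃* Cfsg.Spor.J4) :
    stage G 3 [7, 11, 23, 29, 31, 37, 43] = 11 := by
  classical
  haveI : Fact (Nat.Prime 3) := ⟨Nat.prime_three⟩
  have hone := Cfsg.Agent.S5564.result hG ⟨z, P, hJ⟩
  have ox : orderOf (φ.symm eX) = 3 := by rw [MulEquiv.orderOf_eq, ord_X]
  -- no element of order nine
  have hexp : ∀ g : G, ¬ 3 ^ 2 ∣ orderOf g := by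
    obtain ⟨N, ψ, -, -, -, hHc, -⟩ := JankoFour.ThreeLocal.exists_kernel_frame hJ
    obtain ⟨S⟩ : Nonempty (Sylow 3 ↥(centralizer ({z} : Set G))) := inferInstance
    have hS : Nat.card ↥((S : Subgroup ↥(centralizer ({z} : Set G))).map
        (centralizer ({z} : Set G)).subtype) = 27 := by
      rw [card_map_of_injective (subtype_injective _), S.card_eq_multiplicity, hHc,
        Nat.factorization_mul (by norm_num) (by norm_num), Finsupp.add_apply,
        show (27 : ℕ) = 3 ^ 3 by norm_num, Nat.Prime.factorization_pow Nat.prime_three,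
        Finsupp.single_eq_same, Nat.factorization_eq_zero_of_not_dvd (by norm_num)]
    have hG3 : (Nat.card G).factorization 3 = 3 := by
      rw [J4Local.natCard_iso φ, show J4Local.ord4 = 3 ^ 3 * 3213910038743613440 from rfl,
        Nat.factorization_mul (by norm_num) (by norm_num), Finsupp.add_apply,
        Nat.Prime.factorization_pow Nat.prime_three, Finsupp.single_eq_same,
        Nat.factorization_eq_zero_of_not_dvd (by norm_num)]
    let R : Sylow 3 G := Sylow.ofCard ((S : Subgroup ↥(centralizer ({z} : Set G))).map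
      (centralizer ({z} : Set G)).subtype) (by rw [hS, hG3]; norm_num)
    have hR : (R : Subgroup G) ≤ centralizer ({z} : Set G) := by
      rw [Sylow.coe_ofCard]; exact map_subtype_le _
    obtain ⟨-, -, he, -⟩ := Cfsg.Agent.S5565.result hG z ⟨P, hJ⟩ R hR
    intro g hg
    obtain ⟨k, hk⟩ := hg
    have ho : orderOf (g ^ k) = 9 := by
      have hk0 : k ≠ 0 := by rintro rfl; rw [mul_zero] at hk; exact (orderOf_pos g).ne' hk
      rw [orderOf_pow_of_dvd hk0 (hk ▸ dvd_mul_left k _), hk, Nat.mul_div_cancel _ (Nat.pos_of_ne_zero hk0)]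
      rfl
    obtain ⟨Q, hQ⟩ := (IsPGroup.of_card (n := 2) (p := 3)
      (show Nat.card ↥(zpowers (g ^ k)) = 3 ^ 2 by rw [Nat.card_zpowers, ho]; rfl)).exists_le_sylow
    obtain ⟨c, hc⟩ := MulAction.exists_smul_eq G Q R
    have hm : MulAut.conj c • g ^ k ∈ (c • Q : Sylow 3 G) :=
      smul_mem_pointwise_smul _ _ _ (hQ (mem_zpowers _))
    rw [hc] at hm
    have h3 := Monoid.pow_exponent_eq_one (⟨_, hm⟩ : ↥(R : Subgroup G))
    rw [he] at h3
    have h3' : orderOf (MulAut.conj c (g ^ k)) ∣ 3 :=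
      orderOf_dvd_of_pow_eq_one (congrArg Subtype.val h3)
    rw [MulEquiv.orderOf_eq, ho] at h3'
    norm_num at h3'
  have hcount : nCl {x : G | orderOf x = 3} = 1 := by
    rw [show (1 : ℕ) = Fintype.card (Fin 1) from rfl]
    exact nCl_eq_of_reps (fun _ => φ.symm eX) (fun _ => ox) (fun i j _ => Subsingleton.elim i j)
      fun a ha => ⟨0, hone a _ ha ox⟩
  rw [stage_eq Nat.prime_three hexp (by decide +kernel) hcount (k := 11)]
  intro x hx
  rw [nCl_cent_isConj (hone x _ hx ox)
    (fun n => ¬ 3 ∣ n ∧ Avoid [7, 11, 23, 29, 31, 37, 43] n)]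
  let e : ↥(centralizer ({φ.symm eX} : Set G)) ≃* ↥(centralizer ({eX} : Set Cfsg.Spor.J4)) :=
    (φ.subgroupMap (centralizer ({φ.symm eX} : Set G))).trans (MulEquiv.subgroupCongr (by
      ext a
      erw [mem_map_equiv]
      rw [mem_centralizer_singleton_iff, mem_centralizer_singleton_iff, ← φ.symm.injective.eq_iff
        (a := a * eX), map_mul, map_mul]))
  rw [nCl_equiv e (fun n => ¬ 3 ∣ n ∧ Avoid [7, 11, 23, 29, 31, 37, 43] n)]
  refine three_count m22_classes m22_cent_eight (CentCover.congr ?_ e)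
  -- the centraliser of an element of order three is the cover
  obtain ⟨-, -, h6, ⟨f⟩, hN⟩ := Cfsg.Agent.S5563.result hG z P hJ
  have hP : Nat.card ↥P = 3 := hJ.2.2.2.2.2.1
  obtain ⟨p, hp, hp1⟩ : ∃ p ∈ P, p ≠ (1 : G) := by
    rcases P.bot_or_exists_ne_one with h | h
    · rw [h, Subgroup.card_bot] at hP; omega
    · exact h
  have hop : orderOf p = 3 := by
    have h := orderOf_dvd_natCard (⟨p, hp⟩ : ↥P)
    rw [orderOf_mk, hP] at h
    exact ((Nat.dvd_prime Nat.prime_three).1 h).resolve_left fun e => hp1 (orderOf_eq_one_iff.1 e)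
  have hzp : zpowers p = P :=
    eq_of_le_of_card_ge (zpowers_le.2 hp) (by rw [hP, Nat.card_zpowers, hop])
  have hC : centralizer ({z} : Set G) ⊓ centralizer (P : Set G) = centralizer ({p} : Set G) := by
    rw [← centralizer_closure ({p} : Set G), ← zpowers_eq_closure, hzp, inf_eq_right]
    exact (centralizer_le_normalizer _).trans hN
  obtain ⟨c, hc⟩ := isConj_iff.1 (hone p _ hop ox)
  let e1 := (MulEquiv.subgroupCongr hC).trans
    ((centEquiv c p).trans (MulEquiv.subgroupCongr (by rw [hc])))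
  refine CentCover.congr ⟨f.toMonoidHom.comp (QuotientGroup.mk' _),
    f.surjective.comp (QuotientGroup.mk'_surjective _), ?_, h6⟩ e1
  exact (MonoidHom.ker_mulEquiv_comp _ f).trans (QuotientGroup.ker_mk' _)

end CfsgLib.Spor.J4Class
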