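import Cfsg.Agent.Lib.Spor.J4Class.ThreeData
import Cfsg.Agent.Lib.Spor.MathieuDegreeBound

/-!
The eleven classes of elements of order prime to 3, 7, 11 in the centraliser of an element of order
three of `J4`.
-/

set_option autoImplicit false
set_option maxRecDepth 100000
set_option linter.style.haveILetI false

namespace CfsgLib.Spor.J4Class

open Subgroup CfsgLib.Spor.J4Rep CfsgLib.Spor.J4Local ThreeData

/-- the elements of order 11 of `M22` are self-centralising -/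
theorem m22_cent_eleven (a : ↥Cfsg.Spor.M22) (ha : orderOf a = 11) :
    Nat.card ↥(centralizer ({a} : Set ↥Cfsg.Spor.M22)) = 11 := by
  obtain ⟨A, -, -, hA, -, -, hcA, -⟩ := CfsgLib.Spor.m22_data
  haveI : Fact (Nat.Prime 11) := ⟨by norm_num⟩
  have h2 : ¬ 11 ^ 2 ∣ Nat.card ↥Cfsg.Spor.M22 := by
    rw [CfsgLib.MathieuOut.natCard_M22]; norm_num
  obtain ⟨g, hg⟩ := exists_conj_into (by norm_num) h2
    (H := centralizer ({A} : Set ↥Cfsg.Spor.M22)) (by rw [hcA]) ha
  set b := g * a * g⁻¹ with hb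
  have hbo : orderOf b = 11 := by rw [hb, ← MulAut.conj_apply, MulEquiv.orderOf_eq, ha]
  have e : zpowers b = centralizer ({A} : Set ↥Cfsg.Spor.M22) :=
    eq_of_le_of_card_ge (zpowers_le.2 hg) (by rw [hcA, Nat.card_zpowers, hbo])
  have e' : zpowers A = centralizer ({A} : Set ↥Cfsg.Spor.M22) :=
    eq_of_le_of_card_ge (zpowers_le.2 (mem_centralizer_singleton_iff.2 rfl))
      (by rw [hcA, Nat.card_zpowers, hA])
  rw [Nat.card_congr (centEquiv g a).toEquiv, ← hb, ← centralizer_closure ({b} : Set _),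
    ← zpowers_eq_closure, e, ← e', zpowers_eq_closure, centralizer_closure, hcA]

theorem eleven_X : eX * eA = eA * eX := ((Commute.refl eE).pow_pow 22 6).eq

theorem ord_X : orderOf eX = 3 := by
  haveI : Fact (Nat.Prime 3) := ⟨Nat.prime_three⟩
  exact reX.orderOf (by decide +kernel) (by decide +kernel)

theorem ord_Z : orderOf eZ = 2 := by
  haveI : Fact (Nat.Prime 2) := ⟨Nat.prime_two⟩
  exact reZ.orderOf (by decide +kernel) (by decide +kernel)

theorem ord_A : orderOf eA = 11 := by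
  haveI : Fact (Nat.Prime 11) := ⟨by norm_num⟩
  exact reA.orderOf (by decide +kernel) (by decide +kernel)

theorem ord_T : orderOf k1 = 2 := by
  haveI : Fact (Nat.Prime 2) := ⟨Nat.prime_two⟩
  exact rk1.orderOf (by decide +kernel) (by decide +kernel)

theorem ord_U : orderOf eU = 5 := by
  haveI : Fact (Nat.Prime 5) := ⟨by norm_num⟩
  exact reU.orderOf (by decide +kernel) (by decide +kernel)

theorem ord_H8 : orderOf eH8 = 8 := by
  haveI : Fact (Nat.Prime 2) := ⟨Nat.prime_two⟩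
  exact orderOf_eq_prime_pow (p := 2) (n := 2)
    (fun h => (reH8.pow (2 ^ 2)).ne Rp.one (by decide +kernel) h)
    ((reH8.pow (2 ^ (2 + 1))).eq Rp.one (by decide +kernel))

theorem ord_H4 : orderOf eH4 = 4 := by
  show orderOf (eH8 ^ 2) = 4
  rw [orderOf_pow' _ (by norm_num), ord_H8]; rfl

theorem ord_V : orderOf eV = 4 := by
  haveI : Fact (Nat.Prime 2) := ⟨Nat.prime_two⟩
  exact orderOf_eq_prime_pow (p := 2) (n := 1)
    (fun h => (reV.pow (2 ^ 1)).ne Rp.one (by decide +kernel) h)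
    ((reV.pow (2 ^ (1 + 1))).eq Rp.one (by decide +kernel))

/-- commutation with the element of order three, by matrices -/
theorem comm_X : k1 * eX = eX * k1 ∧ eH8 * eX = eX * eH8 ∧ eU * eX = eX * eU ∧
    eV * eX = eX * eV ∧ eG * eX = eX * eG :=
  ⟨rk1.comm reX (by decide +kernel), reH8.comm reX (by decide +kernel),
    reU.comm reX (by decide +kernel), reV.comm reX (by decide +kernel),
    reG.comm reX (by decide +kernel)⟩

theorem fusion : eG * eV * eG⁻¹ = eV * eZ :=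
  mul_inv_eq_iff_eq_mul.2 ((reG.mul' reV).eq (((reV.mul' reZ)).mul' reG) (by decide +kernel))

theorem ne_Z : k1 ≠ eZ ∧ eH8 ^ 4 ≠ eZ ∧ eH4 ^ 2 ≠ eZ :=
  ⟨rk1.ne reZ (by decide +kernel), (reH8.pow 4).ne reZ (by decide +kernel),
    (reH4.pow 2).ne reZ (by decide +kernel)⟩

theorem sep_T : ¬ IsConj k1 (k1 * eZ) :=
  not_conj_of_ranks (r := 50) (s := 56) (P := ck1P) (R := ck1R) (L := ceTZL) (M := ceTZM) rk1 reTZ 2
    (by norm_num) (by norm_num) (by decide +kernel) (by decide +kernel)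

theorem sep_H4V : ¬ IsConj eH4 eV :=
  not_conj_of_ranks (r := 24) (s := 28) (P := ceH4P) (R := ceH4R) (L := ceVL) (M := ceVM) reH4 reV 4
    (by norm_num) (by norm_num) (by decide +kernel) (by decide +kernel)

theorem sep_H4ZV : ¬ IsConj (eH4 * eZ) eV :=
  not_conj_of_ranks (r := 20) (s := 28) (P := ceH4ZP) (R := ceH4ZR) (L := ceVL) (M := ceVM) reH4Z reV 4
    (by norm_num) (by norm_num) (by decide +kernel) (by decide +kernel)

theorem sep_H4 : ¬ IsConj (eH4 * eZ) eH4 :=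
  not_conj_of_ranks (r := 20) (s := 24) (P := ceH4ZP) (R := ceH4ZR) (L := ceH4L) (M := ceH4M) reH4Z
    reH4 4 (by norm_num) (by norm_num) (by decide +kernel) (by decide +kernel)

/-- separation of the eleven from orders and eight further facts -/
theorem sep_eleven {C : Type*} [Group C] (R : Fin 11 → C)
    (hord : ∀ i, orderOf (R i) = ![1, 2, 2, 2, 5, 10, 4, 4, 4, 8, 8] i)
    (n1 : ¬ IsConj (R 1) (R 2)) (n2 : ¬ IsConj (R 1) (R 3)) (n3 : ¬ IsConj (R 2) (R 3))
    (n4 : ¬ IsConj (R 7) (R 6)) (n5 : ¬ IsConj (R 8) (R 6)) (n6 : ¬ IsConj (R 8) (R 7))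
    (n7 : ¬ IsConj (R 9) (R 10)) (i j : Fin 11) (hij : IsConj (R i) (R j)) : i = j := by
  have he := (hord i).symm.trans ((orderOf_isConj hij).trans (hord j))
  have key : ∀ i j : Fin 11, (![1, 2, 2, 2, 5, 10, 4, 4, 4, 8, 8] : Fin 11 → ℕ) i =
      (![1, 2, 2, 2, 5, 10, 4, 4, 4, 8, 8] : Fin 11 → ℕ) j → i = j ∨ (i, j) ∈
      ([(1, 2), (1, 3), (2, 3), (7, 6), (8, 6), (8, 7), (9, 10), (2, 1), (3, 1), (3, 2), (6, 7),
        (6, 8), (7, 8), (10, 9)] : List (Fin 11 × Fin 11)) := by decide +kernel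
  rcases key i j he with h | h
  · exact h
  · simp only [List.mem_cons, Prod.mk.injEq, List.not_mem_nil, or_false] at h
    rcases h with ⟨rfl, rfl⟩ | ⟨rfl, rfl⟩ | ⟨rfl, rfl⟩ | ⟨rfl, rfl⟩ | ⟨rfl, rfl⟩ | ⟨rfl, rfl⟩ |
      ⟨rfl, rfl⟩ | ⟨rfl, rfl⟩ | ⟨rfl, rfl⟩ | ⟨rfl, rfl⟩ | ⟨rfl, rfl⟩ | ⟨rfl, rfl⟩ | ⟨rfl, rfl⟩ |
      ⟨rfl, rfl⟩
    exacts [absurd hij n1, absurd hij n2, absurd hij n3, absurd hij n4, absurd hij n5, absurd hij n6,
      absurd hij n7, absurd hij.symm n1, absurd hij.symm n2, absurd hij.symm n3, absurd hij.symm n4,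
      absurd hij.symm n5, absurd hij.symm n6, absurd hij.symm n7]

set_option maxHeartbeats 1600000 in
/-- the eleven classes, given the classes of `M22` -/
theorem three_count
    (hcl : ∃ f : Fin 6 → ↥Cfsg.Spor.M22, ∀ a, Avoid [3, 7, 11] (orderOf a) → ∃ i, IsConj a (f i))
    (h8 : ∀ a : ↥Cfsg.Spor.M22, orderOf a = 8 →
      Nat.card ↥(centralizer ({a} : Set ↥Cfsg.Spor.M22)) = 8)
    (hC : CentCover ↥(centralizer ({eX} : Set Cfsg.Spor.J4)) ↥Cfsg.Spor.M22) :
    nCl {h : ↥(centralizer ({eX} : Set Cfsg.Spor.J4)) |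
      ¬ 3 ∣ orderOf h ∧ Avoid [7, 11, 23, 29, 31, 37, 43] (orderOf h)} = 11 := by
  obtain ⟨hcT, hcH, hcU, hcV, hcG⟩ := comm_X
  let x : ↥(centralizer ({eX} : Set Cfsg.Spor.J4)) := ⟨eX, mem_centralizer_singleton_iff.2 rfl⟩
  let z : ↥(centralizer ({eX} : Set Cfsg.Spor.J4)) :=
    ⟨eZ, mem_centralizer_singleton_iff.2 ((Commute.refl eE).pow_pow 33 22).eq⟩
  let a : ↥(centralizer ({eX} : Set Cfsg.Spor.J4)) := ⟨eA, mem_centralizer_singleton_iff.2 eleven_X.symm⟩
  let t : ↥(centralizer ({eX} : Set Cfsg.Spor.J4)) := ⟨k1, mem_centralizer_singleton_iff.2 hcT⟩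
  let u : ↥(centralizer ({eX} : Set Cfsg.Spor.J4)) := ⟨eU, mem_centralizer_singleton_iff.2 hcU⟩
  let h : ↥(centralizer ({eX} : Set Cfsg.Spor.J4)) := ⟨eH8, mem_centralizer_singleton_iff.2 hcH⟩
  let v : ↥(centralizer ({eX} : Set Cfsg.Spor.J4)) := ⟨eV, mem_centralizer_singleton_iff.2 hcV⟩
  let g : ↥(centralizer ({eX} : Set Cfsg.Spor.J4)) := ⟨eG, mem_centralizer_singleton_iff.2 hcG⟩
  have ox : orderOf x = 3 := (orderOf_mk _ _).trans ord_X
  have oz : orderOf z = 2 := (orderOf_mk _ _).trans ord_Z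
  have oa : orderOf a = 11 := (orderOf_mk _ _).trans ord_A
  have ot : orderOf t = 2 := (orderOf_mk _ _).trans ord_T
  have ou : orderOf u = 5 := (orderOf_mk _ _).trans ord_U
  have oh : orderOf h = 8 := (orderOf_mk _ _).trans ord_H8
  have ov : orderOf v = 4 := (orderOf_mk _ _).trans ord_V
  have oh4 : orderOf (h ^ 2) = 4 := by rw [orderOf_pow' _ (by norm_num), oh]; rfl
  have hz2 : z * z = 1 := by rw [← pow_two, ← oz, pow_orderOf_eq_one]
  have hz1 : z ≠ 1 := fun e => by rw [e, orderOf_one] at oz; norm_num at oz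
  obtain ⟨q, hq, hker, hc6⟩ := hC
  have hxc : x ∈ center ↥(centralizer ({eX} : Set Cfsg.Spor.J4)) :=
    mem_center_iff.2 fun b => Subtype.ext (mem_centralizer_singleton_iff.1 b.2)
  have hq1 : ∀ c, q c = 1 ↔ c ∈ center ↥(centralizer ({eX} : Set Cfsg.Spor.J4)) := fun c => by
    rw [← hker, MonoidHom.mem_ker]
  -- the involution is central
  have hzc : z ∈ center ↥(centralizer ({eX} : Set Cfsg.Spor.J4)) := by
    haveI : Fact (Nat.Prime 11) := ⟨by norm_num⟩
    have hqa : orderOf (q a) = 11 := by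
      refine orderOf_eq_prime (by rw [← map_pow, ← oa, pow_orderOf_eq_one, map_one]) fun e => ?_
      have h6 : orderOf (⟨a, (hq1 a).1 e⟩ : center ↥(centralizer ({eX} : Set Cfsg.Spor.J4))) ∣
          Nat.card ↥(center ↥(centralizer ({eX} : Set Cfsg.Spor.J4))) := orderOf_dvd_natCard _
      rw [orderOf_mk, oa, hc6] at h6
      norm_num at h6
    have hmem : q z ∈ centralizer ({q a} : Set ↥Cfsg.Spor.M22) := by
      rw [mem_centralizer_singleton_iff, ← map_mul, ← map_mul]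
      exact congrArg q (Subtype.ext ((Commute.refl eE).pow_pow 33 6).eq)
    have h1 : orderOf (⟨q z, hmem⟩ : centralizer ({q a} : Set ↥Cfsg.Spor.M22)) ∣ 11 :=
      m22_cent_eleven _ hqa ▸ orderOf_dvd_natCard _
    rw [orderOf_mk] at h1
    rcases (Nat.dvd_prime (by norm_num)).1 h1 with e | e
    · exact (hq1 z).1 (orderOf_eq_one_iff.1 e)
    · have := oz ▸ orderOf_map_dvd q z
      rw [e] at this; norm_num at this
  have hkers : ∀ c, q c = 1 → ∃ i j : ℕ, c = x ^ i * z ^ j := fun c hc =>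
    center_eq_pows hc6 hxc hzc ox oz ((hq1 c).1 hc)
  set s := {b : ↥(centralizer ({eX} : Set Cfsg.Spor.J4)) |
      ¬ 3 ∣ orderOf b ∧ Avoid [7, 11, 23, 29, 31, 37, 43] (orderOf b)} with hs
  have hgood : ∀ n : ℕ, n ∣ 8 ∨ n ∣ 10 → ∀ b, b ^ n = 1 → b ∈ s := by
    intro n hn b hb
    have hd : orderOf b ∈ Nat.divisors 8 ∪ Nat.divisors 10 := by
      rw [Finset.mem_union, Nat.mem_divisors, Nat.mem_divisors]
      rcases hn with hn | hn
      · exact Or.inl ⟨(orderOf_dvd_of_pow_eq_one hb).trans hn, by norm_num⟩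
      · exact Or.inr ⟨(orderOf_dvd_of_pow_eq_one hb).trans hn, by norm_num⟩
    have key : ∀ m ∈ Nat.divisors 8 ∪ Nat.divisors 10,
        ¬ 3 ∣ m ∧ ∀ r ∈ [7, 11, 23, 29, 31, 37, 43], ¬ r ∣ m := by decide +kernel
    exact key _ hd
  have hcz : ∀ b, Commute b z := fun b => mem_center_iff.1 hzc b
  have hzn : ∀ (b : ↥(centralizer ({eX} : Set Cfsg.Spor.J4))) (n : ℕ), 2 ∣ n → b ^ n = 1 →
      (b * z) ^ n = 1 := by
    rintro b _ ⟨k, rfl⟩ hb
    rw [(hcz b).mul_pow, hb, one_mul, pow_mul, pow_two, hz2, one_pow]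
  -- at most eleven
  have hle : nCl s ≤ 11 := by
    obtain ⟨f, hf⟩ := hcl
    have hv : IsConj v (v * z) := isConj_iff.2 ⟨g, Subtype.ext fusion⟩
    refine (nCl_cover_le f hq hkers hxc hzc ox hz2 (s := s) (fun b hb => hb.1) (fun b hb => hf _ ?_)
      (u := v) (hgood 4 (Or.inl (by norm_num)) v (ov ▸ pow_orderOf_eq_one v)) hv).trans (by simp)
    intro r hr hd
    have hd' := hd.trans (orderOf_map_dvd q b)
    simp only [List.mem_cons, List.not_mem_nil, or_false] at hr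
    rcases hr with rfl | rfl | rfl
    · exact hb.1 hd'
    · exact hb.2 7 (by simp) hd'
    · exact hb.2 11 (by simp) hd'
  -- at least eleven
  refine le_antisymm hle ?_
  have hhq : orderOf (q h) = 8 := by
    haveI : Fact (Nat.Prime 2) := ⟨Nat.prime_two⟩
    refine orderOf_eq_prime_pow (p := 2) (n := 2) (fun e => ?_)
      (by rw [← map_pow, show 2 ^ (2 + 1) = orderOf h from oh.symm, pow_orderOf_eq_one, map_one])
    rw [← map_pow] at e
    obtain ⟨i, j, hij⟩ := hkers _ e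
    have hi : x ^ i = 1 := by
      have e8 : (x ^ i * z ^ j) ^ 2 = 1 := by rw [← hij, ← pow_mul, show 2 ^ 2 * 2 = orderOf h from oh.symm, pow_orderOf_eq_one]
      rw [((hcz x).pow_pow i j).mul_pow, ← pow_mul z, mul_comm j, pow_mul z, pow_two z, hz2, one_pow,
        mul_one, ← pow_mul] at e8
      have h3 := orderOf_dvd_of_pow_eq_one e8
      rw [ox] at h3
      exact orderOf_dvd_iff_pow_eq_one.1 (ox.symm ▸ (Nat.prime_three.dvd_mul.1 h3).resolve_right
        (by norm_num))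
    rw [hi, one_mul] at hij
    rcases Nat.even_or_odd' j with ⟨k, rfl | rfl⟩
    · rw [pow_mul, pow_two z, hz2, one_pow] at hij
      have := orderOf_dvd_of_pow_eq_one hij
      rw [oh] at this; norm_num at this
    · rw [pow_succ z, pow_mul z, pow_two z, hz2, one_pow, one_mul] at hij
      exact ne_Z.2.1 (congrArg Subtype.val hij)
  have h8split : ¬ IsConj h (h * z) := by
    refine not_conj_mul_of_cyclic_cent hker hz1 (fun m hm => ?_) ((hq1 z).2 hzc)
    have e : zpowers (q h) = centralizer ({q h} : Set ↥Cfsg.Spor.M22) :=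
      eq_of_le_of_card_ge (zpowers_le.2 (mem_centralizer_singleton_iff.2 rfl))
        (by rw [h8 _ hhq, Nat.card_zpowers, hhq])
    rw [e]; exact mem_centralizer_singleton_iff.2 hm
  have hval : ∀ {b c : ↥(centralizer ({eX} : Set Cfsg.Spor.J4))}, IsConj b c →
      IsConj (b : Cfsg.Spor.J4) c := fun hbc =>
    (centralizer ({eX} : Set Cfsg.Spor.J4)).subtype.map_isConj hbc
  have ouz : orderOf (u * z) = 10 := by
    rw [(hcz u).orderOf_mul_eq_mul_orderOf_of_coprime (by rw [ou, oz]; norm_num), ou, oz]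
  have otz : orderOf (t * z) = 2 := by
    haveI : Fact (Nat.Prime 2) := ⟨Nat.prime_two⟩
    refine orderOf_eq_prime (hzn t 2 dvd_rfl (ot ▸ pow_orderOf_eq_one t)) fun e => ne_Z.1 ?_
    rw [mul_eq_one_iff_eq_inv, inv_eq_of_mul_eq_one_right hz2] at e
    exact congrArg Subtype.val e
  have oh4z : orderOf (h ^ 2 * z) = 4 := by
    haveI : Fact (Nat.Prime 2) := ⟨Nat.prime_two⟩
    refine orderOf_eq_prime_pow (p := 2) (n := 1) (fun e => ?_)
      (hzn _ 4 (by norm_num) (oh4 ▸ pow_orderOf_eq_one (h ^ 2)))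
    rw [(hcz (h ^ 2)).mul_pow, show z ^ 2 ^ 1 = 1 by rw [pow_one, pow_two, hz2], mul_one] at e
    have := orderOf_dvd_of_pow_eq_one e
    rw [oh4] at this; norm_num at this
  have ohz : orderOf (h * z) = 8 := by
    haveI : Fact (Nat.Prime 2) := ⟨Nat.prime_two⟩
    refine orderOf_eq_prime_pow (p := 2) (n := 2) (fun e => ?_)
      (hzn _ 8 (by norm_num) (oh ▸ pow_orderOf_eq_one h))
    rw [(hcz h).mul_pow, show z ^ 2 ^ 2 = 1 by rw [show 2 ^ 2 = 2 * 2 from rfl, pow_mul, pow_two z, hz2, one_pow], mul_one] at e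
    have := orderOf_dvd_of_pow_eq_one e
    rw [oh] at this; norm_num at this
  let R : Fin 11 → ↥(centralizer ({eX} : Set Cfsg.Spor.J4)) :=
    ![1, z, t, t * z, u, u * z, v, h ^ 2, h ^ 2 * z, h, h * z]
  have hord : ∀ i, orderOf (R i) = ![1, 2, 2, 2, 5, 10, 4, 4, 4, 8, 8] i := by
    intro i
    fin_cases i
    exacts [orderOf_one, oz, ot, otz, ou, ouz, ov, oh4, oh4z, oh, ohz]
  refine le_trans (le_of_eq (Fintype.card_fin 11).symm) (le_nCl R (fun i => ?_) (fun i j hij => ?_))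
  · refine hgood _ ?_ _ (pow_orderOf_eq_one _)
    rw [hord]
    fin_cases i <;> simp +decide
  · have zc : ∀ {b}, IsConj z b → z = b := fun {b} hb => by
      obtain ⟨c, rfl⟩ := isConj_iff.1 hb
      rw [(hcz c).eq, mul_inv_cancel_right]
    have n1 : ¬ IsConj z t := fun e => ne_Z.1 (congrArg Subtype.val (zc e)).symm
    have n2 : ¬ IsConj z (t * z) := fun e => by
      have e1 := zc e
      rw [mul_eq_right.1 e1.symm, orderOf_one] at ot; norm_num at ot
    have n3 : ¬ IsConj t (t * z) := fun e => sep_T (hval e)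
    have n4 : ¬ IsConj (h ^ 2) v := fun e => sep_H4V (hval e)
    have n5 : ¬ IsConj (h ^ 2 * z) v := fun e => sep_H4ZV (hval e)
    have n6 : ¬ IsConj (h ^ 2 * z) (h ^ 2) := fun e => sep_H4 (hval e)
    exact sep_eleven R hord n1 n2 n3 n4 n5 n6 h8split i j hij

end CfsgLib.Spor.J4Class
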