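import Cfsg.Agent.Lib.Spor.J4Class.Stage
import Cfsg.Agent.Lib.Spor.J4Local.Node

/-!
Tools for the stage of the prime 3: packed powers and products, separation of classes by ranks, and
classes in a cover of a group by a central subgroup of order six.
-/

set_option autoImplicit false
set_option maxRecDepth 100000
set_option linter.style.haveILetI false

namespace CfsgLib.Spor.J4Class

open Subgroup CfsgLib.Spor.J4Rep CfsgLib.Spor.J4Local

theorem powK {e : Cfsg.Spor.J4} {M K : ℕ} (he : Rp e M) (n : ℕ)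
    (h : Nat.beq (powB M n) K = true) : Rp (e ^ n) K := by
  rw [← Nat.eq_of_beq_eq_true h]; exact he.pow n

theorem eqK {e : Cfsg.Spor.J4} {M K : ℕ} (he : Rp e M) (h : Nat.beq M K = true) : Rp e K := by
  rw [← Nat.eq_of_beq_eq_true h]; exact he

/-- sums of powers of different ranks separate classes -/
theorem not_conj_of_ranks {c a : Cfsg.Spor.J4} {C A P R L M r s : ℕ} (hc : Rp c C) (ha : Rp a A)
    (n : ℕ) (hr : r < s) (hs : s ≤ 112)
    (h1 : Nat.beq (sumB C n) (mulB 112 (mulB 112 P (diagB r)) R) = true)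
    (h2 : Nat.beq (mulB 112 (mulB 112 L (sumB A n)) M) (diagB s) = true) : ¬ IsConj c a := by
  intro hconj
  obtain ⟨g, hg⟩ := isConj_iff.1 hconj
  have hsum : toM 112 (sumB A n) = (J4Rep.rep g : GL (Fin 112) (ZMod 2)).val *
      toM 112 (sumB C n) * (J4Rep.rep g⁻¹ : GL (Fin 112) (ZMod 2)).val := by
    rw [toM_sumB ha, toM_sumB hc, Finset.mul_sum, Finset.sum_mul]
    refine Finset.sum_congr rfl fun i _ => ?_
    rw [← hg, conj_pow, map_mul, map_mul, Units.val_mul, Units.val_mul]
  have hle : (toM 112 (sumB A n)).rank ≤ r := by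
    rw [hsum, Nat.eq_of_beq_eq_true h1, toM_mulB, toM_mulB]
    refine (Matrix.rank_mul_le_left _ _).trans ((Matrix.rank_mul_le_right _ _).trans ?_)
    exact (Matrix.rank_mul_le_left _ _).trans ((Matrix.rank_mul_le_right _ _).trans
      (rank_diag (by omega)).le)
  have hge := (Matrix.rank_mul_le_left (toM 112 L * toM 112 (sumB A n)) (toM 112 M)).trans
    ((Matrix.rank_mul_le_right _ _).trans hle)
  rw [← toM_mulB, ← toM_mulB, Nat.eq_of_beq_eq_true h2, rank_diag hs] at hge
  omega

/-- a group with centre of order six and central quotient isomorphic to `M` -/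
def CentCover (C : Type*) [Group C] (M : Type*) [Group M] : Prop :=
  ∃ q : C →* M, Function.Surjective q ∧ q.ker = center C ∧ Nat.card ↥(center C) = 6

theorem CentCover.congr {C D M : Type*} [Group C] [Group D] [Group M] (h : CentCover C M)
    (e : C ≃* D) : CentCover D M := by
  obtain ⟨q, hq, hker, hc⟩ := h
  have hmem : ∀ d : D, e.symm d ∈ center C ↔ d ∈ center D := fun d => by
    rw [mem_center_iff, mem_center_iff]
    exact ⟨fun h b => by simpa using congrArg e (h (e.symm b)),
      fun h b => by simpa using congrArg e.symm (h (e b))⟩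
  refine ⟨q.comp e.symm.toMonoidHom, hq.comp e.symm.surjective, ?_, ?_⟩
  · ext d
    rw [MonoidHom.mem_ker, ← hmem, ← hker, MonoidHom.mem_ker]
    rfl
  · rw [← hc]
    exact Nat.card_congr (Equiv.subtypeEquiv e.symm.toEquiv fun d => (hmem d).symm)

variable {C M : Type*} [Group C] [Group M]

/-- the centre from an element of order three and an involution -/
theorem center_eq_pows [Finite C] (hc : Nat.card ↥(center C) = 6) {x z : C} (hx : x ∈ center C)
    (hz : z ∈ center C) (ox : orderOf x = 3) (oz : orderOf z = 2) {c : C} (h : c ∈ center C) :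
    ∃ i j : ℕ, c = x ^ i * z ^ j := by
  set S : Set C := (fun p : Fin 3 × Fin 2 => x ^ (p.1 : ℕ) * z ^ (p.2 : ℕ)) '' Set.univ
  have hco : Commute x z := (mem_center_iff.1 hz x)
  have hinj : Function.Injective fun p : Fin 3 × Fin 2 => x ^ (p.1 : ℕ) * z ^ (p.2 : ℕ) := by
    rintro ⟨a, b⟩ ⟨a', b'⟩ he
    have h2 : x ^ (2 * (a : ℕ)) = x ^ (2 * (a' : ℕ)) := by
      have := congrArg (· ^ 2) he
      simp only [(hco.pow_pow _ _).mul_pow, ← pow_mul] at this
      rw [mul_comm (b : ℕ), mul_comm (b' : ℕ), pow_mul z, pow_mul z,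
        show z ^ 2 = 1 from oz ▸ pow_orderOf_eq_one z, one_pow, one_pow, mul_one, mul_one] at this
      rwa [mul_comm, mul_comm (a' : ℕ)] at this
    have ha : a = a' := by
      rw [pow_eq_pow_iff_modEq, ox] at h2
      have := a.2; have := a'.2; apply Fin.ext
      unfold Nat.ModEq at h2; omega
    subst ha
    have hb := mul_left_cancel he
    rw [pow_eq_pow_iff_modEq, oz] at hb
    have := b.2; have := b'.2
    unfold Nat.ModEq at hb
    exact Prod.ext rfl (Fin.ext (by simp only at hb ⊢; omega))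
  have hS : S = (center C : Set C) := by
    refine Set.eq_of_subset_of_ncard_le ?_ ?_ (Set.toFinite _)
    · rintro _ ⟨p, -, rfl⟩
      exact mul_mem (pow_mem hx _) (pow_mem hz _)
    · rw [← Nat.card_coe_set_eq, Set.ncard_image_of_injective _ hinj, Set.ncard_univ]
      simp only [SetLike.coe_sort_coe, hc, Nat.card_prod, Nat.card_fin]; rfl
  obtain ⟨p, -, hp⟩ := hS.symm ▸ (show c ∈ (center C : Set C) from h)
  exact ⟨p.1, p.2, hp.symm⟩

/-- with no `3` in the orders, a fibre meets at most two classes -/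
theorem fibre_conj {q : C →* M} (hq : Function.Surjective q) {x z : C}
    (hker : ∀ c, q c = 1 → ∃ i j : ℕ, c = x ^ i * z ^ j) (hx : x ∈ center C) (hz : z ∈ center C)
    (ox : orderOf x = 3) (oz : z * z = 1) {a b : C} (ha : ¬ 3 ∣ orderOf a) (hb : ¬ 3 ∣ orderOf b)
    (h : IsConj (q a) (q b)) : IsConj a b ∨ IsConj a (b * z) := by
  obtain ⟨m, hm⟩ := isConj_iff.1 h
  obtain ⟨g, rfl⟩ := hq m
  have h1 : q (b⁻¹ * (g * a * g⁻¹)) = 1 := by rw [map_mul, map_inv, map_mul, map_mul, map_inv, hm, inv_mul_cancel]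
  obtain ⟨i, j, hij⟩ := hker _ h1
  have hga : g * a * g⁻¹ = b * (x ^ i * z ^ j) := by rw [← hij]; group
  have hord : ¬ 3 ∣ orderOf (g * a * g⁻¹) := by rwa [← MulAut.conj_apply, MulEquiv.orderOf_eq]
  set N := orderOf (g * a * g⁻¹) * orderOf b * 2
  have hxN : x ^ (i * N) = 1 := by
    have e : (g * a * g⁻¹) ^ N = 1 :=
      orderOf_dvd_iff_pow_eq_one.1 (Dvd.intro _ (mul_assoc _ _ _).symm)
    have c1 : Commute b (x ^ i * z ^ j) :=
      ((show Commute b x from mem_center_iff.1 hx b).pow_right i).mul_right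
        ((show Commute b z from mem_center_iff.1 hz b).pow_right j)
    have c2 : Commute (x ^ i) (z ^ j) := (show Commute x z from mem_center_iff.1 hz x).pow_pow i j
    rw [hga, c1.mul_pow, c2.mul_pow,
      orderOf_dvd_iff_pow_eq_one.1 (show orderOf b ∣ N from
        Dvd.dvd.mul_right (dvd_mul_left _ _) 2),
      one_mul, ← pow_mul, ← pow_mul, show j * N = 2 * (j * (orderOf (g * a * g⁻¹) * orderOf b)) by
        simp only [N]; ring, pow_mul z 2, pow_two, oz, one_pow, mul_one] at e
    exact e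
  have hi : x ^ i = 1 := by
    have h3 : 3 ∣ i * N := ox ▸ orderOf_dvd_of_pow_eq_one hxN
    rcases Nat.prime_three.dvd_mul.1 h3 with h | h
    · exact orderOf_dvd_iff_pow_eq_one.1 (ox.symm ▸ h)
    · rcases Nat.prime_three.dvd_mul.1 h with h | h
      · exact absurd h (fun h => (Nat.prime_three.dvd_mul.1 h).elim hord hb)
      · norm_num at h
  rw [hi, one_mul] at hga
  rcases Nat.even_or_odd' j with ⟨k, rfl | rfl⟩
  · left
    refine isConj_iff.2 ⟨g, ?_⟩
    rw [hga, pow_mul, pow_two, oz, one_pow, mul_one]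
  · right
    refine isConj_iff.2 ⟨g, ?_⟩
    rw [hga, pow_succ, pow_mul, pow_two, oz, one_pow, one_mul]

theorem isConj_mul_central {a b z : C} (hz : z ∈ center C) (h : IsConj a b) :
    IsConj (a * z) (b * z) := by
  obtain ⟨g, rfl⟩ := isConj_iff.1 h
  exact isConj_iff.2 ⟨g, by rw [show g * (a * z) * g⁻¹ = g * a * (z * g⁻¹) by group,
    ← (mem_center_iff.1 hz g⁻¹)]; group⟩

/-- one fused fibre among `n` leaves at most `2 n - 1` classes -/
theorem nCl_cover_le [Finite C] {ι : Type*} [Fintype ι] [DecidableEq ι] (f : ι → M) {q : C →* M}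
    (hq : Function.Surjective q) {x z : C} (hker : ∀ c, q c = 1 → ∃ i j : ℕ, c = x ^ i * z ^ j)
    (hx : x ∈ center C) (hz : z ∈ center C) (ox : orderOf x = 3) (oz : z * z = 1) {s : Set C}
    (hs : ∀ a ∈ s, ¬ 3 ∣ orderOf a) (hf : ∀ a ∈ s, ∃ i, IsConj (q a) (f i))
    {u : C} (hu : u ∈ s) (huz : IsConj u (u * z)) :
    nCl s ≤ 2 * Fintype.card ι - 1 := by
  classical
  obtain ⟨i0, hi0⟩ := hf u hu
  let pick : ι → C := fun i => if i = i0 then u else
    if h : ∃ a ∈ s, IsConj (q a) (f i) then h.choose else 1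
  let F : {p : ι × Bool // p ≠ (i0, true)} → C := fun p => bif p.1.2 then pick p.1.1 * z else pick p.1.1
  have hsub : ConjClasses.mk '' s ⊆ Set.range fun p => ConjClasses.mk (F p) := by
    rintro _ ⟨a, ha, rfl⟩
    obtain ⟨i, hi⟩ := hf a ha
    by_cases hii : i = i0
    · subst hii
      refine ⟨⟨(i, false), by simp⟩, ConjClasses.mk_eq_mk_iff_isConj.2 ?_⟩
      show IsConj (pick i) a
      simp only [pick, if_pos]
      rcases fibre_conj hq hker hx hz ox oz (hs a ha) (hs u hu) (hi.trans hi0.symm) with h | h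
      · exact h.symm
      · exact (h.trans huz.symm).symm
    · have hex : ∃ a ∈ s, IsConj (q a) (f i) := ⟨a, ha, hi⟩
      have hp : pick i = hex.choose := by simp only [pick, if_neg hii, dif_pos hex]
      rcases fibre_conj hq hker hx hz ox oz (hs a ha) (hs _ hex.choose_spec.1)
          (hi.trans hex.choose_spec.2.symm) with h | h
      · exact ⟨⟨(i, false), by simp [hii]⟩, ConjClasses.mk_eq_mk_iff_isConj.2 (hp ▸ h.symm)⟩
      · exact ⟨⟨(i, true), by simp [hii]⟩, ConjClasses.mk_eq_mk_iff_isConj.2 (hp ▸ h.symm)⟩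
  haveI : Finite (ConjClasses C) := Finite.of_surjective _ ConjClasses.mk_surjective
  refine (Set.ncard_le_ncard hsub (Set.toFinite _)).trans ?_
  refine (Nat.card_coe_set_eq _).symm.le.trans ((Finite.card_range_le _).trans ?_)
  rw [Nat.card_eq_fintype_card, Fintype.card_subtype_compl, Fintype.card_subtype_eq,
    Fintype.card_prod, Fintype.card_bool, mul_comm]

theorem le_nCl [Finite C] {ι : Type*} [Fintype ι] {s : Set C} (R : ι → C) (hm : ∀ i, R i ∈ s)
    (hd : ∀ i j, IsConj (R i) (R j) → i = j) : Fintype.card ι ≤ nCl s := by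
  haveI : Finite (ConjClasses C) := Finite.of_surjective _ ConjClasses.mk_surjective
  rw [← Nat.card_eq_fintype_card, ← Set.ncard_range_of_injective
    (fun i j e => hd i j (ConjClasses.mk_eq_mk_iff_isConj.1 e))]
  exact Set.ncard_le_ncard (Set.range_subset_iff.2 fun i => Set.mem_image_of_mem _ (hm i))
    (Set.toFinite _)

/-- an element whose image is self-centralising in the quotient is not fused with its translate -/
theorem not_conj_mul_of_cyclic_cent {q : C →* M} (hker : q.ker = center C) {h z : C}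
    (hz1 : z ≠ 1) (hcyc : ∀ m : M, m * q h = q h * m → m ∈ zpowers (q h)) (hzc : q z = 1) :
    ¬ IsConj h (h * z) := by
  intro hc
  obtain ⟨g, hg⟩ := isConj_iff.1 hc
  have h1 : q g * q h = q h * q g := by
    have e := congrArg q hg
    rw [map_mul, map_mul, map_inv, map_mul, hzc, mul_one] at e
    exact mul_inv_eq_iff_eq_mul.1 e
  obtain ⟨k, hk⟩ := mem_zpowers_iff.1 (hcyc _ h1)
  have h2 : h ^ (-k) * g ∈ center C := by
    rw [← hker, MonoidHom.mem_ker, map_mul, map_zpow, ← hk, ← zpow_add, neg_add_cancel, zpow_zero]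
  have h3 : g * h = h * g := by
    have e : h * (h ^ (-k) * g) = (h ^ (-k) * g) * h := mem_center_iff.1 h2 h
    have e2 : g = h ^ k * (h ^ (-k) * g) := by rw [← mul_assoc, ← zpow_add, add_neg_cancel, zpow_zero, one_mul]
    have c2 : Commute g h := by
      rw [e2]; exact ((Commute.refl h).zpow_left k).mul_left e.symm
    exact c2.eq
  rw [h3, mul_inv_cancel_right] at hg
  exact hz1 (mul_eq_left.1 hg.symm)

end CfsgLib.Spor.J4Class
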