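import Cfsg.Agent.Lib.Spor.J4Class.TwoFuse

/-!
Every 2-element of `J4` is conjugate to one of ten listed words.
-/

set_option autoImplicit false
set_option maxRecDepth 100000

open scoped Pointwise

namespace CfsgLib.Spor.J4Class

open CfsgLib.Spor CfsgLib.Spor.J4Out CfsgLib.Spor.J4Rep

/-- the Sylow 2-subgroup of `M₂₄` -/
def sylT : Subgroup Cfsg.M24 := (genGroup syl2Gens).subgroupOf Cfsg.M24

theorem natCard_sylT : Nat.card sylT = 1024 :=
  (Nat.card_congr (Subgroup.subgroupOfEquivOfLe (genGroup_le syl2Gens)).toEquiv).trans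
    (natCard_genGroup syl2_listed)

theorem natCard_syl : ∃ S : Subgroup Cfsg.Spor.J4, Nat.card S = 2 ^ 21 ∧
    ∀ g ∈ S, ∃ c < 2048, ∃ σ ∈ sylT, g = prodM fList c * rho σ := by
  have hr : ∀ u w : Cfsg.Spor.J4, rep u = rep w →
      (MonoidHom.id Cfsg.Spor.J4) u = (MonoidHom.id Cfsg.Spor.J4) w :=
    fun u w h => CfsgLib.Spor.J4.rep_injective h
  have hef : (MonoidHom.id Cfsg.Spor.J4) ef ≠ 1 := fun h => by
    rw [MonoidHom.id_apply] at h
    exact J4Lower.rep_ef_ne (congrArg rep h)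
  have hx : (MonoidHom.id Cfsg.Spor.J4) (wval [0]) ≠ 1 := fun h => by
    rw [MonoidHom.id_apply] at h
    exact rep_x_ne_one (by rw [wval_nil]; exact congrArg rep h)
  have hfG : J4Lower.fG (MonoidHom.id Cfsg.Spor.J4) = fList := by simp [J4Lower.fG]
  have hinj := J4Lower.hImg_injective _ hr hef hx
  have hnorm := J4Lower.normal_rho _ hr
  simp only [hfG, MonoidHom.id_apply] at hinj hnorm
  have hinv : ∀ c, (prodM fList c)⁻¹ = prodM fList c := fun c =>
    inv_eq_of_mul_eq_one_right (by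
      rw [prodM_mul fList _ _ (fun f hf => by
        obtain ⟨i, hi, rfl⟩ := List.mem_map.1 hf
        exact CfsgLib.Spor.J4.rep_injective (rep_f2 i (List.mem_range.1 hi))) fList_comm,
        Nat.xor_self, prodM_zero])
  let S : Subgroup Cfsg.Spor.J4 :=
    { carrier := Set.range fun cm : Fin 2048 × sylT => prodM fList cm.1.1 * rho cm.2.1
      one_mem' := ⟨(⟨0, by norm_num⟩, 1), by simp [prodM_zero]⟩
      mul_mem' := by
        rintro _ _ ⟨⟨c, m⟩, rfl⟩ ⟨⟨d, n⟩, rfl⟩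
        obtain ⟨d', hd', e⟩ := hnorm m.1 d.1 d.2
        refine ⟨(⟨c.1 ^^^ d', Nat.xor_lt_two_pow (n := 11) c.2 hd'⟩, m * n), ?_⟩
        simp only [← prodM_mul fList c.1 d' fList_sq fList_comm, Subgroup.coe_mul, map_mul, ← e]
        group
      inv_mem' := by
        rintro _ ⟨⟨c, m⟩, rfl⟩
        obtain ⟨d', hd', e⟩ := hnorm (m⁻¹ : sylT).1 c.1 c.2
        refine ⟨(⟨d', hd'⟩, m⁻¹), ?_⟩
        simp only [mul_inv_rev, hinv, ← e, Subgroup.coe_inv, map_inv, inv_inv]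
        group }
  refine ⟨S, ?_, ?_⟩
  · show Nat.card (Set.range _) = _
    rw [Nat.card_range_of_injective, Nat.card_prod, natCard_sylT, Nat.card_fin]
    · norm_num
    · rintro ⟨c, m⟩ ⟨d, n⟩ e
      have := @hinj (c, m.1) (d, n.1) e
      obtain ⟨e1, e2⟩ := Prod.ext_iff.1 this
      exact Prod.ext e1 (Subtype.ext e2)
  · rintro _ ⟨⟨c, m⟩, rfl⟩
    exact ⟨c.1, c.2, m.1, m.2, rfl⟩

/-- every 2-element of `J4` is conjugate to one of the ten words -/
theorem two_cover : ∀ g : Cfsg.Spor.J4, (∃ k : ℕ, g ^ (2 ^ k) = 1) →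
    ∃ w ∈ twoW, IsConj g (wval w) := by
  intro g hg
  have := CfsgLib.Spor.J4.finite
  have : Fact (Nat.Prime 2) := ⟨Nat.prime_two⟩
  obtain ⟨S, hS, hmem⟩ := natCard_syl
  have hfac : 2 ^ (Nat.card Cfsg.Spor.J4).factorization 2 = 2 ^ 21 := by
    rw [CfsgLib.Spor.J4.natCard_eq,
      show 86775571046077562880 = 2 ^ 21 * 41377816699065 by norm_num,
      Nat.factorization_mul (by norm_num) (by norm_num), Finsupp.add_apply,
      Nat.Prime.factorization_pow Nat.prime_two, Finsupp.single_eq_same,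
      Nat.factorization_eq_zero_of_not_dvd (by norm_num)]
  have hp : IsPGroup 2 (Subgroup.zpowers g) := by
    obtain ⟨k, hk⟩ := hg
    obtain ⟨m, -, hm⟩ := (Nat.dvd_prime_pow Nat.prime_two).1 (orderOf_dvd_of_pow_eq_one hk)
    exact IsPGroup.of_card (n := m) (by rw [Nat.card_zpowers, hm])
  obtain ⟨Q, hQ⟩ := hp.exists_le_sylow
  obtain ⟨a, ha⟩ := MulAction.exists_smul_eq Cfsg.Spor.J4 Q (Sylow.ofCard S (hS.trans hfac.symm))
  have hga : a * g * a⁻¹ ∈ S := by
    have h1 : MulAut.conj a • g ∈ MulAut.conj a • (Q : Subgroup Cfsg.Spor.J4) :=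
      Subgroup.smul_mem_pointwise_smul _ _ _ (hQ (Subgroup.mem_zpowers g))
    rw [← Sylow.coe_subgroup_smul,
      ha, Sylow.coe_ofCard] at h1
    simpa using h1
  obtain ⟨c, hc, σ, hσ, e⟩ := hmem _ hga
  obtain ⟨j, hj, hconj⟩ := exists_isConj_piW (σ := σ) (Subgroup.mem_subgroupOf.1 hσ)
  obtain ⟨m, hm⟩ := isConj_iff.1 hconj
  have hr : ∀ u w : Cfsg.Spor.J4, rep u = rep w →
      (MonoidHom.id Cfsg.Spor.J4) u = (MonoidHom.id Cfsg.Spor.J4) w :=
    fun u w h => CfsgLib.Spor.J4.rep_injective h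
  obtain ⟨d, hd, hd'⟩ := J4Lower.normal_rho _ hr m c hc
  have hfG : J4Lower.fG (MonoidHom.id Cfsg.Spor.J4) = fList := by simp [J4Lower.fG]
  rw [hfG] at hd'
  simp only [MonoidHom.id_apply] at hd'
  have hgel : IsConj g (el2 j d) := by
    refine isConj_iff.2 ⟨rho m * a, ?_⟩
    rw [el2, ← hd', ← rho_mval _ (piW_lt j hj), ← hm, map_mul, map_mul, map_inv]
    calc rho m * a * g * (rho m * a)⁻¹ = rho m * (a * g * a⁻¹) * (rho m)⁻¹ := by group
      _ = _ := by rw [e]; group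
  obtain ⟨r, hr', h1⟩ := exists_isConj_root hj hd
  obtain ⟨w, hw, h2⟩ := exists_isConj_twoW hj hr'
  exact ⟨w, hw, hgel.trans (h1.trans h2)⟩

end CfsgLib.Spor.J4Class
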