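import Cfsg.Agent.Lib.Spor.J4Class.Large
import Cfsg.Agent.Lib.Spor.J4Class.Two
import Cfsg.Agent.Lib.Spor.J4Class.TwoInv

/-!
The ten classes of 2-elements of `J4`.
-/

set_option autoImplicit false
set_option maxRecDepth 100000

namespace CfsgLib.Spor.J4Class

open CfsgLib.Spor.J4Rep CfsgLib.Spor.J4Local

theorem twoW_pow : ((List.range 10).all fun i =>
    Nat.beq (evalB (powW 16 (TwoInv.reps.getD i []))) (evalB [])) = true := by decide +kernel

theorem reps_eq : TwoInv.reps = twoW := rfl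

theorem two_stage {G : Type*} [Group G] [Finite G] (φ : G ≃* Cfsg.Spor.J4) :
    nCl {g : G | Avoid [5, 3, 7, 11, 23, 29, 31, 37, 43] (orderOf g)} = 10 := by
  haveI : Finite Cfsg.Spor.J4 := Finite.of_equiv G φ.toEquiv
  rw [nCl_equiv φ (Avoid [5, 3, 7, 11, 23, 29, 31, 37, 43])]
  have hcard : Nat.card Cfsg.Spor.J4 = ord4 := natCard_iso (MulEquiv.refl Cfsg.Spor.J4)
  rw [show (10 : ℕ) = Fintype.card (Fin 10) from rfl]
  refine nCl_eq_of_reps (fun i : Fin 10 => wval (TwoInv.reps.getD i [])) (fun i => ?_)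
    TwoInv.reps_distinct (fun a ha => ?_)
  · refine (avoid_iff hcard _).2 ⟨4, ?_⟩
    have h := List.all_eq_true.1 twoW_pow i (List.mem_range.2 i.2)
    rw [show (2 : ℕ) ^ 4 = 16 by norm_num, ← wval_powW, J4Local.wval_eq_of_beq h, wval_nil]
  · obtain ⟨w, hw, hc⟩ := two_cover a ((avoid_iff hcard a).1 ha)
    obtain ⟨i, hi, rfl⟩ := List.getElem_of_mem hw
    refine ⟨⟨i, hi⟩, ?_⟩
    show IsConj a (wval (TwoInv.reps.getD i []))
    rw [reps_eq, List.getD_eq_getElem _ _ hi]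
    exact hc

end CfsgLib.Spor.J4Class
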