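import Cfsg.Agent.Lib.Spor.J4Class.TwoMoves

/-!
Straight-line programs for the conjugating elements of `J4` and the fusion of the roots.
-/

set_option autoImplicit false
set_option maxRecDepth 100000

namespace CfsgLib.Spor.J4Class

open CfsgLib.Spor.J4Out CfsgLib.Spor.J4Rep

/-- the value of one instruction -/
noncomputable def opG (acc : List Cfsg.Spor.J4) : ℕ × ℕ × ℕ → Cfsg.Spor.J4
  | (0, a, _) => wval (slpW.getD a [])
  | (1, a, _) => prodM fList a
  | (_, a, b) => acc.getD a 1 * acc.getD b 1

/-- the packed value of one instruction -/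
def opB (acc : List ℕ) : ℕ × ℕ × ℕ → ℕ
  | (0, a, _) => evalB (slpW.getD a [])
  | (1, a, _) => prodB fListB a
  | (_, a, b) => mulB 112 (acc.getD a (oneB 112)) (acc.getD b (oneB 112))

/-- the values of a program, newest first -/
noncomputable def runG : List (ℕ × ℕ × ℕ) → List Cfsg.Spor.J4 → List Cfsg.Spor.J4
  | [], acc => acc
  | op :: r, acc => runG r (opG acc op :: acc)

/-- the packed values of a program -/
def runB : List (ℕ × ℕ × ℕ) → List ℕ → List ℕ
  | [], acc => acc
  | op :: r, acc => runB r (opB acc op :: acc)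

theorem img_run : ∀ (r : List (ℕ × ℕ × ℕ)) (g : List Cfsg.Spor.J4) (P : List ℕ),
    (∀ k, Img (g.getD k 1) (P.getD k (oneB 112))) →
      ∀ k, Img ((runG r g).getD k 1) ((runB r P).getD k (oneB 112))
  | [], _, _, h => h
  | op :: r, g, P, h => by
    refine img_run r _ _ fun k => ?_
    rcases k with _ | k
    · simp only [List.getD_cons_zero]
      rcases op with ⟨t, a, b⟩
      rcases t with _ | _ | t
      · exact Img.word (Nat.beq_refl _)
      · exact img_prod a
      · exact (h a).mul (h b)
    · simp only [List.getD_cons_succ]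
      exact h k

/-- the program turns the root into the listed word -/
def fuseB (e : ℕ × ℕ × ℕ × List (ℕ × ℕ × ℕ)) : Bool :=
  let C := (runB e.2.2.2 []).getD 0 (oneB 112)
  Nat.blt e.2.2.1 10 &&
    Nat.beq (mulB 112 C (mulB 112 (prodB fListB e.2.1) (evalB (piW.getD e.1 []))))
      (mulB 112 (evalB (twoW.getD e.2.2.1 [])) C)

/-- each root has a program -/
def rootsB : Bool :=
  (List.range 7).all fun j => (rootT.getD j []).all fun r =>
    fuseT.any fun e => Nat.beq e.1 j && Nat.beq e.2.1 r

theorem roots_ok : rootsB = true := by decide +kernel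

theorem fuse_ok : fuseT.all fuseB = true := by decide +kernel

theorem img_el2 (j c : ℕ) :
    Img (el2 j c) (mulB 112 (prodB fListB c) (evalB (piW.getD j []))) :=
  (img_prod c).mul (Img.word (Nat.beq_refl _))

/-- each root is conjugate to a listed word -/
theorem exists_isConj_twoW {j r : ℕ} (hj : j < 7) (hr : r ∈ rootT.getD j []) :
    ∃ w ∈ twoW, IsConj (el2 j r) (wval w) := by
  have h := roots_ok
  simp only [rootsB, List.all_eq_true, List.any_eq_true, Bool.and_eq_true, Nat.beq_eq] at h
  obtain ⟨e, he, e1, e2⟩ := h j (List.mem_range.2 hj) r hr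
  have h' := List.all_eq_true.1 fuse_ok e he
  simp only [fuseB, Bool.and_eq_true, Nat.blt_eq] at h'
  obtain ⟨hw, heq⟩ := h'
  have hlen : e.2.2.1 < twoW.length := hw
  refine ⟨twoW.getD e.2.2.1 [], by rw [List.getD_eq_getElem _ _ hlen]; exact List.getElem_mem hlen,
    ?_⟩
  have hC := img_run e.2.2.2 [] [] (fun k => by simpa using Img.one) 0
  rw [e1, e2] at heq
  have key := eq_of_img (hC.mul (img_el2 j r)) ((Img.word (Nat.beq_refl _)).mul hC) heq
  refine isConj_iff.2 ⟨(runG e.2.2.2 []).getD 0 1, ?_⟩
  rw [key]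
  group

end CfsgLib.Spor.J4Class
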