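import Cfsg.Agent.Lib.Spor.Syl2
import Cfsg.Agent.Lib.Spor.J4Out.Kit
import Cfsg.Agent.Lib.Spor.J4Class.TwoData

/-!
The elements of a Sylow 2-subgroup of `Cfsg.M24` are conjugate to seven elements given by words in
the two standard generators.
-/

set_option autoImplicit false
set_option maxRecDepth 100000

namespace CfsgLib.Spor.J4Class

open Cfsg CfsgLib.Spor CfsgLib.Spor.J4Out
open CfsgLib.Spor.J4Rep (wval)

/-- a letter in the two generators, packed -/
def letP : ℕ → ℕ
  | 0 => CfsgLib.Spor.J4.mAa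
  | 1 => CfsgLib.Spor.J4.mBa
  | _ => CfsgLib.Spor.J4.mBi

/-- a word in the two generators, packed -/
def evP : List ℕ → ℕ
  | [] => idP
  | l :: w => compP (letP l) (evP w)

/-- a letter as an element of `M₂₄` -/
def letM : ℕ → Cfsg.M24
  | 0 => CfsgLib.Spor.J4.M24Iso.ga
  | 1 => CfsgLib.Spor.J4.M24Iso.gb
  | _ => CfsgLib.Spor.J4.M24Iso.gb⁻¹

/-- a word as an element of `M₂₄` -/
def mval (w : List ℕ) : Cfsg.M24 := (w.map letM).prod

theorem rep_letM (l : ℕ) : Rep (letM l : Equiv.Perm GolayPt) (letP l) := by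
  unfold letM letP
  split
  · exact CfsgLib.Spor.J4.rep_mA
  · exact CfsgLib.Spor.J4.rep_mB
  · exact CfsgLib.Spor.J4.rep_mBi

theorem rep_mval : ∀ w : List ℕ, Rep (mval w : Equiv.Perm GolayPt) (evP w)
  | [] => by simpa [mval, evP, idP] using rep_one
  | l :: w => by
    rw [mval, List.map_cons, List.prod_cons, evP, Subgroup.coe_mul]
    exact (rep_letM l).mul (rep_mval w)

theorem rho_mval : ∀ w : List ℕ, (∀ l ∈ w, l < 3) → rho (mval w) = wval w
  | [], _ => by simp [mval, CfsgLib.Spor.J4Rep.wval_nil]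
  | l :: w, h => by
    have hl := h l List.mem_cons_self
    rw [mval, List.map_cons, List.prod_cons, map_mul, ← mval,
      rho_mval w fun k hk => h k (List.mem_cons_of_mem _ hk),
      show l :: w = [l] ++ w from rfl, CfsgLib.Spor.J4Rep.wval_append]
    congr 1
    rcases l with _ | _ | _ | l
    · exact CfsgLib.Spor.J4.M24Iso.toHom_ga xyRels
    · exact CfsgLib.Spor.J4.M24Iso.toHom_gb xyRels
    · show rho (CfsgLib.Spor.J4.M24Iso.gb⁻¹) = wval [2]
      rw [map_inv, rho, CfsgLib.Spor.J4.M24Iso.toHom_gb]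
      have h2 := xyRels.cube
      refine inv_eq_of_mul_eq_one_right ?_
      rw [pow_succ, pow_two, mul_assoc] at h2
      have e : wval [2] = wval [1] * wval [1] := by
        have hi : wval [2] = (wval [1])⁻¹ := by
          simp [CfsgLib.Spor.J4Rep.wval, CfsgLib.Spor.J4Rep.wordF, CfsgLib.Spor.J4Rep.letF]
        rw [hi]
        exact inv_eq_of_mul_eq_one_right h2
      rw [e]
      exact h2
    · omega

/-- a listed element -/
def tel (i : ℕ) : ℕ := getT 120 syl2Tbl i

/-- the parent of a listed element -/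
def tpar (i : ℕ) : ℕ := getT 16 parTbl i

/-- the conjugating word to the parent -/
def tmov (i : ℕ) : List ℕ := movW.getD (getT 16 movTbl i) []

/-- iterated parents -/
def troot : ℕ → ℕ → ℕ
  | 0, i => i
  | k + 1, i => troot k (tpar i)

/-- the listed element is conjugate to its parent and its root is a representative -/
def stepB (i : ℕ) : Bool :=
  Nat.blt (tpar i) 1024 && Nat.beq (compP (tel i) (evP (tmov i))) (compP (evP (tmov i)) (tel (tpar i))) &&
    (List.range 7).any (fun j => Nat.beq (troot depth i) (repI.getD j 0))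

/-- the representatives -/
def repB (j : ℕ) : Bool :=
  Nat.blt (repI.getD j 0) 1024 &&
    Nat.beq (compP idP (evP (piW.getD j []))) (compP idP (tel (repI.getD j 0))) &&
    (piW.getD j []).all fun l => Nat.blt l 3

theorem steps_ok : ((List.range 1024).all stepB && (List.range 7).all repB) = true := by
  decide +kernel

theorem piW_lt (j : ℕ) (hj : j < 7) : ∀ l ∈ piW.getD j [], l < 3 := by
  have h := steps_ok
  simp only [Bool.and_eq_true, List.all_eq_true, repB, Nat.blt_eq] at h
  exact (h.2 j (List.mem_range.2 hj)).2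

theorem conj_root (k : ℕ) : ∀ i < 1024, troot k i < 1024 →
    ∀ (σ τ : Cfsg.M24), Rep (σ : Equiv.Perm GolayPt) (tel i) →
      Rep (τ : Equiv.Perm GolayPt) (tel (troot k i)) → IsConj σ τ := by
  induction k with
  | zero =>
    intro i _ _ σ τ hσ hτ
    rw [Subtype.ext (hσ.inj hτ)]
  | succ k ih =>
    intro i hi hr σ τ hσ hτ
    have h := steps_ok
    simp only [Bool.and_eq_true, List.all_eq_true, stepB, Nat.blt_eq, Nat.beq_eq] at h
    obtain ⟨⟨hp, e⟩, -⟩ := h.1 i (List.mem_range.2 hi)
    obtain ⟨ρ, hρ, hρr⟩ := listed_mem syl2_listed hp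
    let ρ' : Cfsg.M24 := ⟨ρ, genGroup_le _ hρ⟩
    refine (IsConj.symm ?_).trans (ih (tpar i) hp hr ρ' τ hρr hτ)
    refine isConj_iff.2 ⟨mval (tmov i), ?_⟩
    have h1 := hσ.mul (rep_mval (tmov i))
    have h2 := (rep_mval (tmov i)).mul (show Rep (ρ' : Equiv.Perm GolayPt) (tel (tpar i)) from hρr)
    rw [tel, tel] at e
    rw [tel] at h1 h2
    rw [e] at h1
    have key : σ * mval (tmov i) = mval (tmov i) * ρ' := Subtype.ext (h1.inj h2)
    rw [← key]
    group

/-- elements of the Sylow 2-subgroup are conjugate to the seven representatives -/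
theorem exists_isConj_piW {σ : Cfsg.M24}
    (hσ : (σ : Equiv.Perm GolayPt) ∈ genGroup syl2Gens) :
    ∃ j < 7, IsConj σ (mval (piW.getD j [])) := by
  obtain ⟨i, hi, hr⟩ := listed_complete syl2_listed hσ
  have h := steps_ok
  simp only [Bool.and_eq_true, List.all_eq_true, stepB, repB, List.any_eq_true, Nat.blt_eq,
    Nat.beq_eq] at h
  obtain ⟨-, j, hj, ej⟩ := h.1 i (List.mem_range.2 hi)
  refine ⟨j, List.mem_range.1 hj, ?_⟩
  obtain ⟨⟨hj1, hj2⟩, -⟩ := h.2 j hj
  obtain ⟨ρ, hρ, hρr⟩ := listed_mem syl2_listed hj1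
  let ρ' : Cfsg.M24 := ⟨ρ, genGroup_le _ hρ⟩
  have hroot := conj_root depth i hi (ej ▸ hj1) σ ρ' hr (by rw [ej]; exact hρr)
  have hρ' : ρ' = mval (piW.getD j []) := by
    have a1 := Rep.mul rep_one hρr
    have a2 := Rep.mul rep_one (rep_mval (piW.getD j []))
    rw [idP, tel] at hj2
    rw [hj2] at a2
    have e := a1.inj a2
    simp only [one_mul] at e
    exact Subtype.ext e
  exact hρ' ▸ hroot

end CfsgLib.Spor.J4Class
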