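import Cfsg.Agent.Lib.Spor.J4.Card
import Cfsg.Agent.Lib.Spor.J4Class.TwoPerm

/-!
The products of an element of `2^11` and one of seven elements of `⟨x, y⟩` are conjugate to the
listed words.
-/

set_option autoImplicit false
set_option maxRecDepth 100000

namespace CfsgLib.Spor.J4Class

open CfsgLib.Spor.J4Out CfsgLib.Spor.J4Rep

theorem eq_of_img {g g' : Cfsg.Spor.J4} {P P' : ℕ} (h : Img g P) (h' : Img g' P')
    (e : Nat.beq P P' = true) : g = g' :=
  CfsgLib.Spor.J4.rep_injective (h.eq h' e)

theorem fList_sq : ∀ f ∈ fList, f * f = 1 := by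
  intro f hf
  obtain ⟨i, hi, rfl⟩ := List.mem_map.1 hf
  exact CfsgLib.Spor.J4.rep_injective (rep_f2 i (List.mem_range.1 hi))

theorem fList_comm : ∀ f ∈ fList, ∀ g ∈ fList, f * g = g * f := by
  intro f hf g hg
  obtain ⟨i, hi, rfl⟩ := List.mem_map.1 hf
  obtain ⟨j, hj, rfl⟩ := List.mem_map.1 hg
  exact CfsgLib.Spor.J4.rep_injective (rep_fcomm i (List.mem_range.1 hi) j (List.mem_range.1 hj))

/-- the word conjugates the basis as the masks say -/
def maskB (w L : List ℕ) : Bool :=
  Nat.beq L.length 11 && (List.range 11).all fun i =>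
    Nat.beq (mulB 112 (evalB w) (fListB.getD i 0))
      (mulB 112 (prodB fListB (L.getD i 0)) (evalB w))

theorem conj_of_maskB {w L : List ℕ} (h : maskB w L = true) (c : ℕ) :
    wval w * prodM fList c * (wval w)⁻¹ = prodM fList (xorL L c) := by
  simp only [maskB, Bool.and_eq_true, List.all_eq_true, List.mem_range, Nat.beq_eq] at h
  refine conj_prodM fList_sq fList_comm ?_ c
  refine List.ext_getElem (by simp [fList, h.1]) fun i h1 h2 => ?_
  have hi : i < 11 := by simpa [fList] using h1
  have e := h.2 i hi
  rw [List.getD_eq_getElem fListB 0 (by simp [fListB]; omega),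
    List.getD_eq_getElem L 0 (by omega)] at e
  simp only [List.getElem_map, fList, List.getElem_range]
  rw [mul_inv_eq_iff_eq_mul]
  have hf : fListB[i]'(by simp [fListB]; omega) =
      mulB 112 (mulB 112 (powB pA i) pF) (powB pAi i) := by
    simp [fListB]
  rw [hf] at e
  exact eq_of_img ((Img.word (Nat.beq_refl (evalB w))).mul (img_conj_pow i))
    ((img_prod _).mul (Img.word (Nat.beq_refl (evalB w)))) (by simp [e])

/-- the element of `2^11:M24` given by a mask and a representative -/
noncomputable def el2 (j c : ℕ) : Cfsg.Spor.J4 := prodM fList c * wval (piW.getD j [])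

/-- the mask list of a representative -/
def piMask (j : ℕ) : List ℕ := piL.getD j []

/-- the centralising word of a move -/
def cenW (j k : ℕ) : List ℕ := ((cenT.getD j []).getD k ([], [])).1

/-- the masks of a move -/
def cenM (j k : ℕ) : List ℕ := ((cenT.getD j []).getD k ([], [])).2

/-- the parent of a mask -/
def vpar (j c : ℕ) : ℕ := getT 16 (vParT.getD j []) c

/-- the move to the parent of a mask -/
def vmov (j c : ℕ) : ℕ := getT 8 (vMovT.getD j []) c

/-- one move of masks -/
def moveTo (j k u : ℕ) : ℕ :=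
  bif Nat.blt k 11 then u ^^^ (2 ^ k) ^^^ xorL (piMask j) (2 ^ k) else
    bif Nat.blt k 31 then xorL (cenM j (k - 11)) u else u

/-- the tables of a representative are right -/
def repTabB (j : ℕ) : Bool :=
  maskB (piW.getD j []) (piMask j) &&
    (List.range (cenT.getD j []).length).all fun k => maskB (cenW j k) (cenM j k) &&
      Nat.beq (mulB 112 (evalB (cenW j k)) (evalB (piW.getD j [])))
        (mulB 112 (evalB (piW.getD j [])) (evalB (cenW j k)))

/-- iterated parents of a mask -/
def vroot (j : ℕ) : ℕ → ℕ → ℕ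
  | 0, c => c
  | k + 1, c => vroot j k (vpar j c)

/-- a mask is moved to its parent and its root is listed -/
def vstepB (j c : ℕ) : Bool :=
  Nat.blt (vpar j c) 2048 &&
    (Nat.blt (vmov j c) 11 || Nat.blt (vmov j c) (11 + (cenT.getD j []).length) ||
      Nat.beq (vmov j c) 31) &&
    Nat.beq (moveTo j (vmov j c) (vpar j c)) c &&
    (rootT.getD j []).any fun r => Nat.beq (vroot j vDepth c) r

theorem repTab_ok : (List.range 7).all repTabB = true := by decide +kernel

theorem vstep_ok : ((List.range 7).all fun j => (List.range 2048).all (vstepB j)) = true := by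
  decide +kernel

theorem maskB_pi {j : ℕ} (hj : j < 7) : maskB (piW.getD j []) (piMask j) = true := by
  have h := List.all_eq_true.1 repTab_ok j (List.mem_range.2 hj)
  simp only [repTabB, Bool.and_eq_true] at h
  exact h.1

theorem isConj_moveTo {j k : ℕ} (hj : j < 7) (u : ℕ)
    (hk : k < 11 ∨ k < 11 + (cenT.getD j []).length ∨ k = 31) :
    IsConj (el2 j u) (el2 j (moveTo j k u)) := by
  by_cases h11 : k < 11
  · have hb : Nat.blt k 11 = true := by simpa [Nat.blt_eq] using h11
    rw [moveTo, hb, cond_true]
    have hp := conj_of_maskB (maskB_pi hj) (2 ^ k)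
    refine isConj_iff.2 ⟨prodM fList (2 ^ k), ?_⟩
    have hinv : (prodM fList (2 ^ k))⁻¹ = prodM fList (2 ^ k) := inv_eq_of_mul_eq_one_right (by
      rw [prodM_mul fList _ _ fList_sq fList_comm, Nat.xor_self, prodM_zero])
    rw [mul_inv_eq_iff_eq_mul] at hp
    rw [hinv, el2, el2, Nat.xor_comm u (2 ^ k), ← prodM_mul fList _ _ fList_sq fList_comm,
      ← prodM_mul fList _ _ fList_sq fList_comm]
    simp only [mul_assoc]
    rw [hp]
  · have hb : Nat.blt k 11 = false := by
      rw [Bool.eq_false_iff]; simpa [Nat.blt_eq] using h11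
    rw [moveTo, hb, cond_false]
    by_cases h31 : k < 31
    · have hb' : Nat.blt k 31 = true := by simpa [Nat.blt_eq] using h31
      rw [hb', cond_true]
      have hlt : k - 11 < (cenT.getD j []).length := by omega
      have h := List.all_eq_true.1 repTab_ok j (List.mem_range.2 hj)
      simp only [repTabB, Bool.and_eq_true, List.all_eq_true] at h
      obtain ⟨hm, he⟩ := h.2 (k - 11) (List.mem_range.2 hlt)
      have hc : wval (cenW j (k - 11)) * wval (piW.getD j []) =
          wval (piW.getD j []) * wval (cenW j (k - 11)) :=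
        eq_of_img ((Img.word (Nat.beq_refl _)).mul (Img.word (Nat.beq_refl _)))
          ((Img.word (Nat.beq_refl _)).mul (Img.word (Nat.beq_refl _))) he
      have hp := conj_of_maskB hm u
      refine isConj_iff.2 ⟨wval (cenW j (k - 11)), ?_⟩
      rw [el2, el2, ← hp]
      simp only [mul_assoc]
      have hc' : Commute (wval (cenW j (k - 11)))⁻¹ (wval (piW.getD j [])) := Commute.inv_left hc
      rw [hc'.eq]
    · have hb' : Nat.blt k 31 = false := by
        rw [Bool.eq_false_iff]; simpa [Nat.blt_eq] using h31
      rw [hb', cond_false]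

theorem isConj_vroot {j : ℕ} (hj : j < 7) : ∀ (k : ℕ), ∀ c < 2048,
    IsConj (el2 j c) (el2 j (vroot j k c)) := by
  intro k
  induction k with
  | zero => exact fun c _ => IsConj.refl _
  | succ k ih =>
    intro c hc
    have h := List.all_eq_true.1 vstep_ok j (List.mem_range.2 hj)
    have h' := List.all_eq_true.1 h c (List.mem_range.2 hc)
    simp only [vstepB, Bool.and_eq_true, Bool.or_eq_true, Nat.blt_eq, Nat.beq_eq] at h'
    obtain ⟨⟨⟨hp, hk⟩, he⟩, -⟩ := h'
    have hstep := isConj_moveTo hj (vpar j c) (k := vmov j c) (by tauto)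
    rw [he] at hstep
    exact hstep.symm.trans (ih (vpar j c) hp)

/-- every mask is moved to a listed root -/
theorem exists_isConj_root {j : ℕ} (hj : j < 7) {c : ℕ} (hc : c < 2048) :
    ∃ r ∈ rootT.getD j [], IsConj (el2 j c) (el2 j r) := by
  have h := List.all_eq_true.1 vstep_ok j (List.mem_range.2 hj)
  have h' := List.all_eq_true.1 h c (List.mem_range.2 hc)
  simp only [vstepB, Bool.and_eq_true, List.any_eq_true, Nat.beq_eq] at h'
  obtain ⟨-, r, hr, e⟩ := h'
  exact ⟨r, hr, e ▸ isConj_vroot hj vDepth c hc⟩

end CfsgLib.Spor.J4Class
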